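import Cfsg.Agent.Lib.Perm.RootInvolutionProduct
import Cfsg.Agent.Lib.LocalEven.RootReduction.Closure

/-!
# Isolated members among the members commuting with a root involution

For `d` in a set `D` of root involutions, `iso D d` is the set of members commuting with `d` which have
no odd partner among them. It generates a 2-group in which `E(d)` is central.
-/

set_option autoImplicit false

namespace CfsgLib.Perm.RootStructure

open Cfsg CfsgLib.Perm.RootInvolution

variable {G : Type*} [Group G] {D : Set G}

/-- The members commuting with `d` without odd partner among them. -/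
def iso (D : Set G) (d : G) : Set G :=
  {w | IsIsolatedElem (OddAdj (commutingMembers D d)) (commutingMembers D d) w}

/-- The subgroup generated by `iso D d`. -/
def isoGroup (D : Set G) (d : G) : Subgroup G := Subgroup.closure (iso D d)

/-- All squares of products of `x` with members of `iso D d` lie in `E(d)`. -/
def Cen (D : Set G) (d x : G) : Prop :=
  ∀ w ∈ iso D d, x * w * x * w ∈ sameCommutingSubgroup D d

/-- The members with the same commuting members form, with `1`, a subgroup. -/
def ClassSubgroups (D : Set G) : Prop :=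
  ∀ x ∈ D, (sameCommutingSubgroup D x : Set G) = sameCommutingClass D x ∪ {1}

theorem iso_subset {d w : G} (h : w ∈ iso D d) : w ∈ D ∧ w * d = d * w := h.1

theorem iso_mem {d w : G} (h : w ∈ iso D d) : w ∈ D := h.1.1

theorem not_oddAdj_iso {d w z : G} (h : w ∈ iso D d) (hz : z ∈ D) (hzd : Commute z d) :
    ¬ OddAdj D w z := fun ho => (h.2 z).1 ⟨h.1, ⟨hz, hzd⟩, ho.2.2.1, ho.2.2.2⟩

theorem mem_iso_of {d w : G} (hD : IsRootInvolutionSet D) (hw : w ∈ D) (hwd : Commute w d)
    (h : ∀ z ∈ D, Commute z d → ¬ OddAdj D w z) : w ∈ iso D d := by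
  refine ⟨⟨hw, hwd⟩, fun z => ⟨fun ho => h z ho.2.1.1 ho.2.1.2 ⟨hw, ho.2.1.1, ho.2.2⟩, fun ho => ?_⟩⟩
  exact h z ho.1.1 ho.1.2 (oddAdj_symm hD ⟨ho.1.1, hw, ho.2.2⟩)

theorem commute_members_iff {d e x : G} (h : commutingMembers D d = commutingMembers D e)
    (hx : x ∈ D) : Commute x d ↔ Commute x e :=
  ⟨fun hh => (h ▸ (⟨hx, hh⟩ : x ∈ commutingMembers D d) : x ∈ commutingMembers D e).2,
    fun hh => (h.symm ▸ (⟨hx, hh⟩ : x ∈ commutingMembers D e) : x ∈ commutingMembers D d).2⟩

theorem iso_congr {d e : G} (h : commutingMembers D d = commutingMembers D e) :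
    iso D d = iso D e := by simp only [iso, h]

theorem group_congr {d e : G} (h : commutingMembers D d = commutingMembers D e) :
    isoGroup D d = isoGroup D e := by simp only [isoGroup, iso, h]

theorem same_congr {d e : G} (h : commutingMembers D d = commutingMembers D e) :
    sameCommutingSubgroup D d = sameCommutingSubgroup D e := by
  simp only [sameCommutingSubgroup, sameCommutingClass, h]

theorem cen_congr {d e x : G} (h : commutingMembers D d = commutingMembers D e) :
    Cen D d x ↔ Cen D e x := by simp only [Cen, iso_congr h, same_congr h]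

section Class

variable (hE : ClassSubgroups D) {d : G} (hd : d ∈ D)

include hE hd

theorem mem_same {x : G} :
    x ∈ sameCommutingSubgroup D d ↔
      x = 1 ∨ (x ∈ D ∧ commutingMembers D d = commutingMembers D x) := by
  rw [← SetLike.mem_coe, hE d hd, Set.mem_union, Set.mem_singleton_iff]
  exact or_comm

theorem same_sq (hD : IsRootInvolutionSet D) {e : G} (he : e ∈ sameCommutingSubgroup D d) :
    e * e = 1 := by
  rcases (mem_same hE hd).1 he with rfl | ⟨h, -⟩
  · exact one_mul 1
  · exact sq_one hD h

theorem same_commute {e z : G} (he : e ∈ sameCommutingSubgroup D d) (hz : z ∈ D)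
    (hzd : Commute z d) : Commute e z := by
  rcases (mem_same hE hd).1 he with rfl | ⟨-, h⟩
  · exact Commute.one_left z
  · exact ((commute_members_iff h hz).1 hzd).symm

theorem same_commute_self {e : G} (he : e ∈ sameCommutingSubgroup D d) : Commute e d :=
  same_commute hE hd he hd (Commute.refl d)

theorem same_commute_same {e e' : G} (he : e ∈ sameCommutingSubgroup D d)
    (he' : e' ∈ sameCommutingSubgroup D d) : Commute e e' := by
  rcases (mem_same hE hd).1 he' with rfl | ⟨h, -⟩
  · exact Commute.one_right e
  · exact same_commute hE hd he h (same_commute_self hE hd he')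

theorem same_commute_group {e x : G} (he : e ∈ sameCommutingSubgroup D d)
    (hx : x ∈ isoGroup D d) : Commute e x := by
  induction hx using Subgroup.closure_induction with
  | mem w hw => exact same_commute hE hd he (iso_mem hw) (iso_subset hw).2
  | one => exact Commute.one_right e
  | mul u v _ _ hu hv => exact hu.mul_right hv
  | inv u _ hu => exact hu.inv_right

theorem same_mem_iso (hD : IsRootInvolutionSet D) {e : G} (he : e ∈ sameCommutingSubgroup D d)
    (he1 : e ≠ 1) : e ∈ iso D d :=
  mem_iso_of hD (((mem_same hE hd).1 he).resolve_left he1).1 (same_commute_self hE hd he)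
    fun _ hz hzd h => not_commute hD h (same_commute hE hd he hz hzd)

theorem same_mem_group (hD : IsRootInvolutionSet D) {e : G}
    (he : e ∈ sameCommutingSubgroup D d) : e ∈ isoGroup D d := by
  by_cases h : e = 1
  · rw [h]; exact one_mem _
  · exact Subgroup.subset_closure (same_mem_iso hE hd hD he h)

end Class

theorem self_mem_same {d : G} (hd : d ∈ D) : d ∈ sameCommutingSubgroup D d :=
  Subgroup.subset_closure ⟨hd, rfl⟩

section Group

variable (hD : IsRootInvolutionSet D) {d : G}

include hD

theorem partner_mem_iso {e : G} (hd : d ∈ D) (he : e ∈ productPartners D d) : e ∈ iso D d :=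
  mem_iso_of hD he.1.1 he.1.2.1 fun _ _ hzd h =>
    not_commute_of_adj hD (tri_of_partner hd he) h hzd.symm

theorem conj_iso {g w : G} (hg : g ∈ D) (hgd : Commute g d) (hw : w ∈ iso D d) :
    g * w * g ∈ iso D d := by
  refine mem_iso_of hD (conj_self_mem hD hg (iso_mem hw))
    ((hgd.mul_left (iso_subset hw).2).mul_left hgd) fun z hz hzd h => ?_
  have h' := oddAdj_conj hD h g
  rw [inv_eq hD hg, conj_conj hD hg] at h'
  exact not_oddAdj_iso hw (conj_self_mem hD hg hz) ((hgd.mul_left hzd).mul_left hgd) h'

theorem conj_group {g x : G} (hg : g ∈ D) (hgd : Commute g d) (hx : x ∈ isoGroup D d) :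
    g * x * g ∈ isoGroup D d := by
  induction hx using Subgroup.closure_induction with
  | mem w hw => exact Subgroup.subset_closure (conj_iso hD hg hgd hw)
  | one => rw [mul_one, sq_one hD hg]; exact one_mem _
  | mul u v _ _ hu hv =>
    rw [show g * (u * v) * g = g * u * g * (g * v * g) by simp only [mul_assoc, cancel hD hg]]
    exact mul_mem hu hv
  | inv u _ hu =>
    rw [show g * u⁻¹ * g = (g * u * g)⁻¹ by simp only [mul_inv_rev, inv_eq hD hg, mul_assoc]]
    exact inv_mem hu

theorem isPGroup_isoGroup [Finite G] : IsPGroup 2 (isoGroup D d) := by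
  refine CfsgLib.LocalEven.RootReduction.isPGroup_closure_of_no_odd hD (fun w hw => iso_mem hw)
    (fun w hw g hg => ?_) fun u hu v hv =>
      not_oddAdj_iso hu (iso_mem hv) (iso_subset hv).2
  revert w
  induction hg using Subgroup.closure_induction_left with
  | one => intro w hw; simpa using hw
  | mul_left a ha b _ ih =>
    intro w hw
    rw [show a * b * w * (a * b)⁻¹ = a * (b * w * b⁻¹) * a⁻¹ by group, inv_eq hD (iso_mem ha)]
    exact conj_iso hD (iso_mem ha) (iso_subset ha).2 (ih w hw)
  | inv_mul_cancel a ha b _ ih =>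
    intro w hw
    rw [show a⁻¹ * b * w * (a⁻¹ * b)⁻¹ = a⁻¹ * (b * w * b⁻¹) * a⁻¹⁻¹ by group, inv_inv,
      inv_eq hD (iso_mem ha)]
    exact conj_iso hD (iso_mem ha) (iso_subset ha).2 (ih w hw)

theorem mem_iso_of_mem_group [Finite G] {z : G} (hz : z ∈ D) (hzd : Commute z d)
    (hzN : z ∈ isoGroup D d) : z ∈ iso D d := by
  refine mem_iso_of hD hz hzd fun q hq hqd h => ?_
  have hmem : (z * q) ^ 2 ∈ isoGroup D d := by
    rw [show (z * q) ^ 2 = z * (q * z * q) by simp only [pow_two, mul_assoc]]
    exact mul_mem hzN (conj_group hD hq hqd hzN)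
  obtain ⟨k, hk⟩ := isPGroup_isoGroup (d := d) hD ⟨_, hmem⟩
  have hk' : ((z * q) ^ 2) ^ 2 ^ k = 1 := congrArg Subtype.val hk
  rw [← pow_mul] at hk'
  have h1 : orderOf (z * q) = 1 := Nat.eq_one_of_dvd_coprimes
    (Nat.Coprime.mul_right (Nat.coprime_two_right.2 h.2.2.2)
      (Nat.Coprime.pow_right k (Nat.coprime_two_right.2 h.2.2.2)))
    dvd_rfl (orderOf_dvd_of_pow_eq_one hk')
  rw [orderOf_eq_one_iff] at h1
  exact h.2.2.1 (by rw [← mul_one z, ← sq_one hD hq, ← mul_assoc, h1, one_mul])

/-- Two isolated members commute or the square of their product is isolated. -/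
theorem bracket_iso {a b : G} (ha : a ∈ iso D d) (hb : b ∈ iso D d) [Finite G] :
    (Commute a b ∧ a * b * a * b = 1) ∨
      (¬ Commute a b ∧ a * b * a * b ∈ iso D d ∧
        Tri D a (a * b * a * b) ∧ Tri D b (a * b * a * b)) := by
  have haD := iso_mem ha
  have hbD := iso_mem hb
  by_cases hc : Commute a b
  · refine Or.inl ⟨hc, ?_⟩
    rw [hc.eq, mul_assoc b a a, sq_one hD haD, mul_one, sq_one hD hbD]
  obtain ⟨hta, htb⟩ := tri_bracket hD haD hbD (not_oddAdj_iso ha hbD (iso_subset hb).2) hc
  have had : Commute a d := (iso_subset ha).2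
  have hbd : Commute b d := (iso_subset hb).2
  refine Or.inr ⟨hc, mem_iso_of_mem_group hD hta.right (((had.mul_left hbd).mul_left had).mul_left hbd)
    ?_, hta, htb⟩
  have hA : a ∈ isoGroup D d := Subgroup.subset_closure ha
  have hB : b ∈ isoGroup D d := Subgroup.subset_closure hb
  exact mul_mem (mul_mem (mul_mem hA hB) hA) hB

end Group

section Cen

variable (hD : IsRootInvolutionSet D) (hE : ClassSubgroups D) {d : G} (hd : d ∈ D)

include hD hE hd

omit hE hd in
theorem cen_one : Cen D d 1 := fun w hw => by
  rw [one_mul, mul_one, sq_one hD (iso_mem hw)]; exact one_mem _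

theorem cen_same {e : G} (he : e ∈ sameCommutingSubgroup D d) : Cen D d e := fun w hw => by
  have h : Commute e w := same_commute hE hd he (iso_mem hw) (iso_subset hw).2
  rw [h.eq, mul_assoc w e e, same_sq hE hd hD he, mul_one, sq_one hD (iso_mem hw)]
  exact one_mem _

omit hD hE hd in
/-- Conjugation by an isolated member moves a member with `Cen` by an element of `E(d)`. -/
theorem cen_conj {x u : G} (hx : x * x = 1) (hR : Cen D d x) (hu : u ∈ iso D d) :
    ∃ e ∈ sameCommutingSubgroup D d, u * x * u = x * e :=
  ⟨_, hR u hu, by simp only [← mul_assoc, hx, one_mul]⟩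

/-- A member with `Cen` centralises the squares of products of isolated members. -/
theorem cen_commute_bracket {x u v : G} (hx : x * x = 1) (hR : Cen D d x) (hu : u ∈ iso D d)
    (hv : v ∈ iso D d) : Commute x (u * v * u * v) := by
  obtain ⟨e, he, hux⟩ := cen_conj hx hR hu
  obtain ⟨e', he', hvx⟩ := cen_conj hx hR hv
  have hu' := iso_mem hu
  have hv' := iso_mem hv
  have hcu : Commute e' u := same_commute hE hd he' hu' (iso_subset hu).2
  have hcue : Commute e u := same_commute hE hd he hu' (iso_subset hu).2
  have hcv : Commute e v := same_commute hE hd he hv' (iso_subset hv).2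
  have hcve : Commute e' v := same_commute hE hd he' hv' (iso_subset hv).2
  have hmove : ∀ g y c : G, Commute c g → g * (y * c) * g = g * y * g * c := fun g y c hc => by
    rw [mul_assoc g (y * c) g, mul_assoc y c g, hc.eq]; simp only [mul_assoc]
  have h1 : u * (v * x * v) * u = x * (e * e') := by
    rw [hvx, hmove u x e' hcu, hux, mul_assoc]
  have h2 : u * (v * (x * (e * e')) * v) * u = x := by
    rw [hmove v x _ (hcv.mul_left hcve), hmove u (v * x * v) _ (hcue.mul_left hcu), h1, mul_assoc,
      same_sq hE hd hD (mul_mem he he'), mul_one]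
  rw [← h1] at h2
  have hP : (u * v * u * v) * x * (u * v * u * v)⁻¹ = x := by
    calc (u * v * u * v) * x * (u * v * u * v)⁻¹ = u * (v * (u * (v * x * v) * u) * v) * u := by
          simp only [mul_inv_rev, inv_eq hD hu', inv_eq hD hv', mul_assoc]
      _ = x := h2
  exact (mul_inv_eq_iff_eq_mul.1 hP).symm

/-- A member with `Cen` is moved by `E(d)` under the whole group of isolated members. -/
theorem cen_group {x v : G} (hx : x * x = 1) (hR : Cen D d x) (hv : v ∈ isoGroup D d) :
    ∃ e ∈ sameCommutingSubgroup D d, x * v * x = v * e := by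
  induction hv using Subgroup.closure_induction with
  | mem w hw =>
    refine ⟨w * x * w * x, ?_, by simp only [← mul_assoc, sq_one hD (iso_mem hw), one_mul]⟩
    have h : w * x * w * x = (x * w * x * w)⁻¹ := by
      simp only [mul_inv_rev, inv_eq hD (iso_mem hw), inv_eq_of_mul_eq_one_right hx, mul_assoc]
    rw [h]; exact inv_mem (hR w hw)
  | one => exact ⟨1, one_mem _, by simp [hx]⟩
  | mul a b _ hb ha' hb' =>
    obtain ⟨e, he, h⟩ := ha'
    obtain ⟨e', he', h'⟩ := hb'
    refine ⟨e * e', mul_mem he he', ?_⟩
    calc x * (a * b) * x = x * a * x * (x * b * x) := by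
          simp only [mul_assoc]; rw [← mul_assoc x x (b * x), hx, one_mul]
      _ = a * e * (b * e') := by rw [h, h']
      _ = a * b * (e * e') := (same_commute_group hE hd he hb).mul_mul_mul_comm _ _
  | inv a ha ha' =>
    obtain ⟨e, he, h⟩ := ha'
    refine ⟨e⁻¹, inv_mem he, ?_⟩
    have hxi : x⁻¹ = x := inv_eq_of_mul_eq_one_right hx
    calc x * a⁻¹ * x = (x * a * x)⁻¹ := by simp only [mul_inv_rev, hxi, mul_assoc]
      _ = e⁻¹ * a⁻¹ := by rw [h, mul_inv_rev]
      _ = a⁻¹ * e⁻¹ :=
        (((same_commute_group hE hd he ha).inv_left).inv_right).eq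

end Cen

end CfsgLib.Perm.RootStructure
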