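import Cfsg.Agent.Lib.Perm.RootStructure.Orbit
import Cfsg.Agent.Lib.Perm.RootInvolutionChain

/-!
# An isolated member forming an odd pair with `y`

If `w` is isolated, forms a triple with `e` in the class of `d` and an odd pair with `y`, then `e` is
the square of the product of `w` with some value `(e' y)²`, `e'` in the class of `d`. The orbit of
`(e y)²` under `w` and `y` spans an elementary abelian group on which the composed bracket map is
bijective, so `e` lies in its image.
-/

set_option autoImplicit false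

namespace CfsgLib.Perm.RootStructure

open Cfsg CfsgLib.Perm.RootInvolution

variable {G : Type*} [Group G] {D : Set G}

/-- An element fixed by `a` and moved by `z` by an element `c` fixed by both, `a z` odd: `c` is
trivial. -/
theorem fix_two (hD : IsRootInvolutionSet D) {a z p c : G} (h : OddAdj D a z)
    (hap : a * p * a = p) (hzp : z * p * z = p * c) (hac : a * c * a = c) (hzc : z * c * z = c)
    (hc2 : c * c = 1) : c = 1 := by
  obtain ⟨ha, hz, -, j, hj⟩ := h
  have hstep : ∀ i : ℕ, (a * z) ^ i * p * ((a * z) ^ i)⁻¹ = p * c ^ i := by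
    intro i
    induction i with
    | zero => simp
    | succ i ih =>
      have hT : ∀ x : G, a * z * x * (a * z)⁻¹ = a * (z * x * z) * a := fun x => by
        simp only [mul_inv_rev, inv_eq hD ha, inv_eq hD hz, mul_assoc]
      have hpc : ∀ n : ℕ, a * (z * c ^ n * z) * a = c ^ n := fun n => by
        induction n with
        | zero => rw [pow_zero, mul_one, sq_one hD hz, mul_one, sq_one hD ha]
        | succ n ihn => rw [pow_succ, conj_mul hD hz, hzc, conj_mul hD ha, hac, ihn]
      rw [pow_succ', mul_inv_rev,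
        show a * z * (a * z) ^ i * p * (((a * z) ^ i)⁻¹ * (a * z)⁻¹) =
          a * z * ((a * z) ^ i * p * ((a * z) ^ i)⁻¹) * (a * z)⁻¹ by simp only [mul_assoc],
        ih, hT, conj_mul hD hz, hzp, conj_mul hD ha, conj_mul hD ha, hap, hac, hpc, pow_succ',
        mul_assoc]
  have := hstep (2 * j + 1)
  rw [← hj, pow_orderOf_eq_one, one_mul, inv_one, mul_one] at this
  have h1 : c ^ (2 * j + 1) = 1 := by
    rw [← hj]; exact (mul_left_cancel ((mul_one p).trans this)).symm
  rwa [pow_succ, pow_mul, pow_two, hc2, one_pow, one_mul] at h1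

variable [Finite G]

theorem Frame.exists_value {d m y w e : G} (h : Frame D d m y) (hw : w ∈ iso D d)
    (hwy : OddAdj D w y) (he : e ∈ sameCommutingSubgroup D d) (he1 : e ≠ 1) (ht : Tri D w e) :
    ∃ e' ∈ sameCommutingSubgroup D d, fmap y e' * w * fmap y e' * w = e := by
  have hD := h.root
  obtain ⟨heD, hC⟩ := ((mem_same h.cls h.hd).1 he).resolve_left he1
  have hwD := iso_mem hw
  have hyD := h.hy
  obtain ⟨hte, hty⟩ := h.fmap_tri he he1
  set f := fmap y e with hfdef
  have hfI : f ∈ iso D d := h.fmap_iso he he1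
  have hzk : Commute y f := hty.comm
  have hak : ¬ OddAdj D w f := not_oddAdj_iso hw hte.right (iso_subset hfI).2
  set s := chain w y f with hs
  let B : Subgroup G := Subgroup.closure (Set.range s)
  have hsB : ∀ n, s n ∈ B := fun n => Subgroup.subset_closure ⟨n, rfl⟩
  have hgen : ∀ x ∈ B, ∀ n, Commute x (s n) := by
    intro x hx n
    induction hx using Subgroup.closure_induction with
    | mem v hv =>
      obtain ⟨k, rfl⟩ := hv
      exact chain_commute' hD hwD hyD hte.right hzk hak k n
    | one => exact Commute.one_left _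
    | mul u v _ _ hu hv => exact hu.mul_left hv
    | inv u _ hu => exact hu.inv_left
  have hcB : ∀ x ∈ B, ∀ u ∈ B, Commute x u := by
    intro x hx u hu
    induction hu using Subgroup.closure_induction with
    | mem v hv => obtain ⟨k, rfl⟩ := hv; exact hgen x hx k
    | one => exact Commute.one_right _
    | mul u v _ _ hu hv => exact hu.mul_right hv
    | inv u _ hu => exact hu.inv_right
  have hsq : ∀ x ∈ B, x * x = 1 := by
    intro x hx
    induction hx using Subgroup.closure_induction with
    | mem v hv => obtain ⟨k, rfl⟩ := hv; exact chain_sq hD hwD hyD hte.right hzk hak k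
    | one => exact mul_one 1
    | mul u v hu' hv' hu hv => rw [(hcB v hv' u hu').mul_mul_mul_comm, hu, hv, mul_one]
    | inv u _ hu => rw [← mul_inv_rev, hu, inv_one]
  have hinv : ∀ x ∈ B, x⁻¹ = x := fun x hx => inv_eq_of_mul_eq_one_right (hsq x hx)
  have hfixE : ∀ i, y * s (2 * i) * y = s (2 * i) := by
    intro i
    refine conj_eq_of_commute hD hyD ?_
    have h := alt_fix hD hwD hyD hte.right hzk hak (2 * i)
    rwa [alt_two_mul_add] at h
  have hfixO : ∀ i, w * s (2 * i + 1) * w = s (2 * i + 1) := by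
    intro i
    refine conj_eq_of_commute hD hwD ?_
    have h := alt_fix hD hwD hyD hte.right hzk hak (2 * i + 1)
    rwa [show 2 * i + 1 + 1 = 2 * i + 2 by rfl, alt_add w y _ (by decide : Even 2),
      alt_two_mul] at h
  have hmoveE : ∀ i, s (2 * i + 1) = s (2 * i) * (w * s (2 * i) * w) := by
    intro i
    show chain w y f (2 * i + 1) = _
    rw [chain, alt_two_mul]
  have hmoveO : ∀ i, s (2 * (i + 1)) = s (2 * i + 1) * (y * s (2 * i + 1) * y) := by
    intro i
    show chain w y f (2 * i + 1 + 1) = _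
    rw [chain, alt_two_mul_add]
  have hstab : ∀ g ∈ D, (∀ n, g * s n * g ∈ B) → ∀ x ∈ B, g * x * g ∈ B := by
    intro g hg h x hx
    induction hx using Subgroup.closure_induction with
    | mem v hv => obtain ⟨k, rfl⟩ := hv; exact h k
    | one => simp [sq_one hD hg]
    | mul u v _ _ hu hv => rw [conj_mul hD hg]; exact mul_mem hu hv
    | inv u _ hu =>
      have : g * u⁻¹ * g = (g * u * g)⁻¹ := by simp [mul_inv_rev, inv_eq hD hg, mul_assoc]
      rw [this]; exact inv_mem hu
  have hcancel : ∀ a x : G, a * a = 1 → a * (a * x) = x := fun a x h => by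
    rw [← mul_assoc, h, one_mul]
  have hwB : ∀ x ∈ B, w * x * w ∈ B := hstab w hwD fun n => by
    rcases Nat.even_or_odd' n with ⟨i, rfl | rfl⟩
    · rw [← hcancel (s (2 * i)) (w * s (2 * i) * w) (hsq _ (hsB _)), ← hmoveE]
      exact mul_mem (hsB _) (hsB _)
    · rw [hfixO]; exact hsB _
  have hyB : ∀ x ∈ B, y * x * y ∈ B := hstab y hyD fun n => by
    rcases Nat.even_or_odd' n with ⟨i, rfl | rfl⟩
    · rw [hfixE]; exact hsB _
    · rw [← hcancel (s (2 * i + 1)) (y * s (2 * i + 1) * y) (hsq _ (hsB _)), ← hmoveO]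
      exact mul_mem (hsB _) (hsB _)
  have hwew : w * e * w = e := conj_eq_of_commute hD hwD ht.comm
  have hyey : y * e * y = e * f := h.conj_same he
  have hes : ∀ n, Commute e (s n) := by
    intro n
    induction n with
    | zero => exact hte.comm
    | succ n ih =>
      show Commute e (s n * (alt w y n * s n * alt w y n))
      refine ih.mul_right ?_
      by_cases hev : Even n
      · simp only [alt, if_pos hev]
        exact (ht.comm.symm.mul_right ih).mul_right ht.comm.symm
      · simp only [alt, if_neg hev]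
        have h1 := ih.conj y
        rw [inv_eq hD hyD, hyey] at h1
        have h2 : Commute f (y * s n * y) := hcB f (hsB 0) _ (hyB _ (hsB n))
        have h3 := h1.mul_left h2
        rwa [mul_assoc, sq_one hD hte.right, mul_one] at h3
  have heB' : ∀ x ∈ B, Commute e x := by
    intro x hx
    induction hx using Subgroup.closure_induction with
    | mem v hv => obtain ⟨k, rfl⟩ := hv; exact hes k
    | one => exact Commute.one_right _
    | mul u v _ _ hu hv => exact hu.mul_right hv
    | inv u _ hu => exact hu.inv_right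
  -- `e` lies in `B`
  have heB : e ∈ B := by
    have hstep : ∀ n : ℕ, ∃ β ∈ B, (w * y) ^ n * e * ((w * y) ^ n)⁻¹ = e * β := by
      intro n
      induction n with
      | zero => exact ⟨1, one_mem B, by simp⟩
      | succ n ih =>
        obtain ⟨β, hβ, hn⟩ := ih
        refine ⟨w * (f * (y * β * y)) * w, hwB _ (mul_mem (hsB 0) (hyB β hβ)), ?_⟩
        calc (w * y) ^ (n + 1) * e * ((w * y) ^ (n + 1))⁻¹
            = w * (y * ((w * y) ^ n * e * ((w * y) ^ n)⁻¹) * y) * w := by
              rw [pow_succ']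
              simp only [mul_inv_rev, inv_eq hD hwD, inv_eq hD hyD, mul_assoc]
          _ = w * (e * (f * (y * β * y))) * w := by
              rw [hn, conj_mul hD hyD, hyey, mul_assoc e f]
          _ = _ := by rw [conj_mul hD hwD, hwew]
    have hpow : ∀ n : ℕ, ∃ β ∈ B, (e * (w * y)) ^ n = β * e ^ n * (w * y) ^ n := by
      intro n
      induction n with
      | zero => exact ⟨1, one_mem B, by simp⟩
      | succ n ih =>
        obtain ⟨β, hβ, hn⟩ := ih
        obtain ⟨β', hβ', hn'⟩ := hstep n
        refine ⟨β * β', mul_mem hβ hβ', ?_⟩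
        have hswap : (w * y) ^ n * e = e * β' * (w * y) ^ n := mul_inv_eq_iff_eq_mul.1 hn'
        calc (e * (w * y)) ^ (n + 1) = β * e ^ n * ((w * y) ^ n * e) * (w * y) := by
              rw [pow_succ, hn]; simp only [mul_assoc]
          _ = β * (e ^ n * e * β') * ((w * y) ^ n * (w * y)) := by
              rw [hswap]; simp only [mul_assoc]
          _ = β * (β' * (e ^ n * e)) * ((w * y) ^ n * (w * y)) := by
              rw [(((heB' β' hβ').pow_left n).mul_left (heB' β' hβ')).eq]
          _ = _ := by rw [← pow_succ, ← pow_succ]; simp only [mul_assoc]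
    have hwey : OddAdj D (e * w) y := (adj_or hD ht.symm hwy).resolve_left
      (h.nonadj he he1).2.2
    obtain ⟨j, hj⟩ := hwy.2.2.2.mul hwey.2.2.2
    obtain ⟨β, hβ, hn⟩ := hpow (2 * j + 1)
    have h1 : (e * (w * y)) ^ (2 * j + 1) = 1 := by
      rw [← mul_assoc, ← hj, mul_comm, pow_mul, pow_orderOf_eq_one, one_pow]
    have h2 : (w * y) ^ (2 * j + 1) = 1 := by
      rw [← hj, pow_mul, pow_orderOf_eq_one, one_pow]
    rw [h1, h2, mul_one, pow_succ, pow_mul, pow_two, sq_one hD heD, one_pow, one_mul] at hn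
    rw [show e = β⁻¹ from (inv_eq_of_mul_eq_one_right hn.symm).symm]
    exact inv_mem hβ
  -- the two bracket maps
  set F : G → G := fun x => x * (w * x * w) with hFdef
  set Z : G → G := fun x => x * (y * x * y) with hZdef
  have hFmul : ∀ u ∈ B, ∀ v ∈ B, F (u * v) = F u * F v := fun u hu v hv => by
    simp only [hFdef]
    rw [conj_mul hD hwD, (hcB v hv _ (hwB u hu)).mul_mul_mul_comm]
  have hZmul : ∀ u ∈ B, ∀ v ∈ B, Z (u * v) = Z u * Z v := fun u hu v hv => by
    simp only [hZdef]
    rw [conj_mul hD hyD, (hcB v hv _ (hyB u hu)).mul_mul_mul_comm]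
  have hF1 : F 1 = 1 := by simp [hFdef, sq_one hD hwD]
  have hZ1 : Z 1 = 1 := by simp [hZdef, sq_one hD hyD]
  have hFB : ∀ u ∈ B, F u ∈ B := fun u hu => mul_mem hu (hwB u hu)
  have hZB : ∀ u ∈ B, Z u ∈ B := fun u hu => mul_mem hu (hyB u hu)
  have hFfix : ∀ u ∈ B, w * F u * w = F u := fun u hu => by
    simp only [hFdef]
    rw [conj_mul hD hwD, conj_conj hD hwD]
    exact (hcB u hu _ (hwB u hu)).eq.symm
  have hZfix : ∀ u ∈ B, y * Z u * y = Z u := fun u hu => by
    simp only [hZdef]
    rw [conj_mul hD hyD, conj_conj hD hyD]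
    exact (hcB u hu _ (hyB u hu)).eq.symm
  have hFker : ∀ u ∈ B, w * u * w = u → F u = 1 := fun u hu hfix => by
    simp only [hFdef]; rw [hfix, hsq u hu]
  have hFker' : ∀ u ∈ B, F u = 1 → w * u * w = u := fun u hu h1 => by
    have := congrArg (fun t => u * t) h1
    simp only [hFdef, hcancel _ _ (hsq u hu), mul_one] at this
    exact this
  have hZker' : ∀ u ∈ B, Z u = 1 → y * u * y = u := fun u hu h1 => by
    have := congrArg (fun t => u * t) h1
    simp only [hZdef, hcancel _ _ (hsq u hu), mul_one] at this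
    exact this
  have hkey : ∀ o ∈ B, w * o * w = o → w * Z o * w = Z o → Z o = 1 := fun o ho hfo hfz =>
    fix_two hD hwy hfo (by simp only [hZdef]; rw [hcancel _ _ (hsq o ho)]) hfz (hZfix o ho)
      (hsq _ (hZB o ho))
  have hdec : ∀ x ∈ B, ∃ o ∈ B, w * o * w = o ∧ ∃ q ∈ B, x = Z o * F q := by
    intro x hx
    induction hx using Subgroup.closure_induction with
    | mem v hv =>
      obtain ⟨n, rfl⟩ := hv
      rcases Nat.even_or_odd' n with ⟨i, rfl | rfl⟩
      · rcases i with _ | i
        · refine ⟨e, heB, hwew, 1, one_mem B, ?_⟩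
          rw [hF1, mul_one]
          simp only [hZdef]
          rw [hyey, hcancel _ _ (sq_one hD heD)]
          rfl
        · exact ⟨_, hsB _, hfixO i, 1, one_mem B, by rw [hF1, mul_one]; exact hmoveO i⟩
      · refine ⟨1, one_mem B, by rw [mul_one, sq_one hD hwD], _, hsB (2 * i), ?_⟩
        rw [hZ1, one_mul]; exact hmoveE i
    | one =>
      exact ⟨1, one_mem B, by rw [mul_one, sq_one hD hwD], 1, one_mem B,
        by rw [hF1, hZ1, one_mul]⟩
    | mul u v hu' hv' hu hv =>
      obtain ⟨o, ho, hfo, q, hq, rfl⟩ := hu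
      obtain ⟨o', ho', hfo', q', hq', rfl⟩ := hv
      refine ⟨o * o', mul_mem ho ho', by rw [conj_mul hD hwD, hfo, hfo'], q * q',
        mul_mem hq hq', ?_⟩
      rw [hZmul o ho o' ho', hFmul q hq q' hq',
        (hcB _ (hFB q hq) _ (hZB o' ho')).mul_mul_mul_comm]
    | inv u hu' hu => rwa [hinv u hu']
  -- the members of the image of `F`
  let O : Set G := {x | ∃ q ∈ B, x = F q}
  have hOB : ∀ x ∈ O, x ∈ B := by rintro x ⟨q, hq, rfl⟩; exact hFB q hq
  have heO : e ∈ O := by
    obtain ⟨o, ho, hfo, q, hq, hoq⟩ := hdec e heB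
    have h1 : F e = 1 := hFker e heB hwew
    rw [hoq, hFmul _ (hZB o ho) _ (hFB q hq), hFker _ (hFB q hq) (hFfix q hq), mul_one] at h1
    rw [hkey o ho hfo (hFker' _ (hZB o ho) h1), one_mul] at hoq
    exact ⟨q, hq, hoq⟩
  have hinj : ∀ x ∈ O, F (Z x) = 1 → x = 1 := by
    rintro x hxO hx1
    have hxB := hOB x hxO
    obtain ⟨q, hq, rfl⟩ := hxO
    have hz1 : Z (F q) = 1 := hkey _ hxB (hFfix q hq) (hFker' _ (hZB _ hxB) hx1)
    obtain ⟨o, ho, hfo, q', hq', rfl⟩ := hdec q hq
    rw [hFmul _ (hZB o ho) _ (hFB q' hq'), hFker _ (hFB q' hq') (hFfix q' hq'), mul_one] at hz1 ⊢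
    exact fix_two hD (oddAdj_symm hD hwy) (hZfix o ho)
      (by simp only [hFdef]; rw [hcancel _ _ (hsq _ (hZB o ho))])
      (hZker' _ (hFB _ (hZB o ho)) hz1) (hFfix _ (hZB o ho)) (hsq _ (hFB _ (hZB o ho)))
  let Φ : O → O := fun x => ⟨F (Z x), Z x, hZB _ (hOB x x.2), rfl⟩
  have hΦ : Function.Injective Φ := by
    rintro ⟨x, hx⟩ ⟨x', hx'⟩ hxx
    have hxx' : F (Z x) = F (Z x') := congrArg Subtype.val hxx
    obtain ⟨q, hq, rfl⟩ := hx
    obtain ⟨q', hq', rfl⟩ := hx'
    have h1 : F (Z (F q * F q')) = 1 := by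
      rw [hZmul _ (hFB q hq) _ (hFB q' hq'),
        hFmul _ (hZB _ (hFB q hq)) _ (hZB _ (hFB q' hq')), hxx',
        hsq _ (hFB _ (hZB _ (hFB q' hq')))]
    have h2 := hinj (F q * F q') ⟨q * q', mul_mem hq hq', (hFmul q hq q' hq').symm⟩ h1
    apply Subtype.ext
    show F q = F q'
    rw [← mul_one (F q), ← hsq _ (hFB q' hq'), ← mul_assoc, h2, one_mul]
  let σ : Equiv.Perm O := Equiv.ofBijective Φ ⟨hΦ, Finite.injective_iff_surjective.1 hΦ⟩
  have hσ : ∀ i, s (2 * i) = Z (((σ ^ i) ⟨e, heO⟩ : O) : G) := by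
    intro i
    induction i with
    | zero =>
      show f = Z e
      simp only [hZdef]
      rw [hyey, hcancel _ _ (sq_one hD heD)]
    | succ i ih =>
      rw [hmoveO, hmoveE, ih, pow_succ', Equiv.Perm.mul_apply]
      rfl
  obtain ⟨k, hk⟩ := Nat.exists_eq_add_of_le (orderOf_pos σ : 1 ≤ orderOf σ)
  set v : G := (((σ ^ k) ⟨e, heO⟩ : O) : G) with hvdef
  have hFc : F (s (2 * k)) = e := by
    rw [hσ k]
    show ((σ ((σ ^ k) ⟨e, heO⟩) : O) : G) = e
    rw [← Equiv.Perm.mul_apply, ← pow_succ', show k + 1 = orderOf σ by omega, pow_orderOf_eq_one]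
    rfl
  have hcB' : s (2 * k) ∈ B := hsB _
  obtain ⟨hcD, -, hwc⟩ :
      s (2 * k) ∈ D ∧ Commute (alt w y (2 * k + 1)) (s (2 * k)) ∧
        ¬ OddAdj D (alt w y (2 * k)) (s (2 * k)) := by
    rcases chain_spec hD hwD hyD hte.right hzk hak (2 * k) with h1 | h1
    · exfalso
      rw [hs] at hFc
      rw [h1, hF1] at hFc
      exact he1 hFc.symm
    · exact h1
  rw [alt_two_mul] at hwc
  have hncw : ¬ Commute (s (2 * k)) w := fun hc => he1 (by
    rw [← hFc]; exact hFker _ hcB' (conj_eq_of_commute hD hwD hc.symm))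
  have htc : Tri D (s (2 * k)) e := by
    have := (tri_bracket hD hcD hwD (fun hh => hwc (oddAdj_symm hD hh)) hncw).1
    rwa [show s (2 * k) * w * s (2 * k) * w = F (s (2 * k)) by
      simp only [hFdef, mul_assoc], hFc] at this
  have hcI : s (2 * k) ∈ iso D d := by
    rw [iso_congr hC]
    exact partner_mem_iso hD heD (htc.symm.partner hD)
  have hvN : v ∈ isoGroup D d := by
    have hnorm : ∀ q ∈ B, Commute q d := by
      intro q hq
      induction hq using Subgroup.closure_induction with
      | mem u hu =>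
        obtain ⟨n, rfl⟩ := hu
        rcases chain_spec hD hwD hyD hte.right hzk hak n with h1 | ⟨h1, -, -⟩
        · rw [hs, h1]; exact Commute.one_left d
        · exact (commute_members_iff hC h1).2 (hes n).symm
      | one => exact Commute.one_left d
      | mul u u' _ _ hu hu' => exact hu.mul_left hu'
      | inv u _ hu => exact hu.inv_left
    have hn : ∀ q ∈ B, ∀ x ∈ isoGroup D d, q * x * q⁻¹ ∈ isoGroup D d := by
      intro q hq
      induction hq using Subgroup.closure_induction_left with
      | one => intro x hx; simpa using hx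
      | mul_left u hu q _ ih =>
        intro x hx
        have hu' := hu
        obtain ⟨n, rfl⟩ := hu
        rw [show s n * q * x * (s n * q)⁻¹ = s n * (q * x * q⁻¹) * (s n)⁻¹ by group,
          hinv _ (hsB n)]
        rcases chain_spec hD hwD hyD hte.right hzk hak n with h1 | ⟨h1, -, -⟩
        · rw [hs, h1, one_mul, mul_one]; exact ih x hx
        · exact conj_group hD h1 (hnorm _ (hsB n)) (ih x hx)
      | inv_mul_cancel u hu q _ ih =>
        intro x hx
        obtain ⟨n, rfl⟩ := hu
        rw [hinv _ (hsB n),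
          show s n * q * x * (s n * q)⁻¹ = s n * (q * x * q⁻¹) * (s n)⁻¹ by group,
          hinv _ (hsB n)]
        rcases chain_spec hD hwD hyD hte.right hzk hak n with h1 | ⟨h1, -, -⟩
        · rw [hs, h1, one_mul, mul_one]; exact ih x hx
        · exact conj_group hD h1 (hnorm _ (hsB n)) (ih x hx)
    obtain ⟨q, hq, hvq⟩ := ((σ ^ k) ⟨e, heO⟩).2
    rw [hvdef, hvq, show F q = q * w * q⁻¹ * w by rw [hinv q hq]; simp only [hFdef, mul_assoc]]
    exact mul_mem (hn q hq w (Subgroup.subset_closure hw)) (Subgroup.subset_closure hw)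
  have hvB : v ∈ B := hOB _ ((σ ^ k) ⟨e, heO⟩).2
  have hyv : y * v * y = v * s (2 * k) := by
    rw [hσ k]
    simp only [hZdef]
    rw [hcancel _ _ (hsq v hvB)]
  obtain ⟨e', he', hce'⟩ := h.orbit hvN (Subgroup.subset_closure hcI) hyv
  refine ⟨e', he', ?_⟩
  rw [← hce', ← hFc]
  simp only [hFdef, mul_assoc]

end CfsgLib.Perm.RootStructure
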