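import Cfsg.Agent.Lib.Perm.RootStructure.Chain

/-!
# The squares of products of isolated members lie in the class of `d`

Suppose `a`, `b` are isolated, `m = (a b)²` and every square of a product of `a` with an isolated
member is centralised modulo `E(d)`. With a frame `(d, m, y)` each of `a`, `b` forms a product of
order four or an odd pair with `y`; in the first case it contributes `e` to the decomposition of
`e = [m, (e y)²]`, in the second an element of the group generated by it and `y` carries it to `m`
and normalises `E(d)`. Both lead to a contradiction.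
-/

set_option autoImplicit false

namespace CfsgLib.Perm.RootStructure

open Cfsg CfsgLib.Perm.RootInvolution

variable {G : Type*} [Group G] {D : Set G}

theorem mem_members_conj {d x : G} (hD : IsRootInvolutionSet D) (g : G) :
    x ∈ commutingMembers D (g * d * g⁻¹) ↔ g⁻¹ * x * g ∈ commutingMembers D d := by
  constructor
  · rintro ⟨hx, hc⟩
    refine ⟨by simpa using hD.conj_mem x hx g⁻¹, ?_⟩
    calc g⁻¹ * x * g * d = g⁻¹ * (x * (g * d * g⁻¹)) * g := by group
      _ = d * (g⁻¹ * x * g) := by rw [hc]; group
  · rintro ⟨hx, hc⟩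
    refine ⟨by simpa [mul_assoc] using hD.conj_mem _ hx g, ?_⟩
    calc x * (g * d * g⁻¹) = g * (g⁻¹ * x * g * d) * g⁻¹ := by group
      _ = g * d * g⁻¹ * x := by rw [hc]; group

theorem members_conj {d e : G} (hD : IsRootInvolutionSet D)
    (h : commutingMembers D d = commutingMembers D e) (g : G) :
    commutingMembers D (g * d * g⁻¹) = commutingMembers D (g * e * g⁻¹) := by
  ext x
  rw [mem_members_conj hD, mem_members_conj hD, h]

theorem iso_conj {d w : G} (hD : IsRootInvolutionSet D) (g : G) (hw : w ∈ iso D d) :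
    g * w * g⁻¹ ∈ iso D (g * d * g⁻¹) := by
  refine mem_iso_of hD (hD.conj_mem w (iso_mem hw) g) ((iso_subset hw).2 |> fun h => ?_) ?_
  · exact (show Commute w d from h).conj g
  intro z hz hzd ho
  obtain ⟨hz', hzd'⟩ := (mem_members_conj hD g).1 (⟨hz, hzd⟩ : z ∈ commutingMembers D (g * d * g⁻¹))
  refine not_oddAdj_iso hw hz' hzd' ?_
  simpa [mul_assoc] using oddAdj_conj hD ho g⁻¹

/-- An element fixing the class of `d` respects `Cen`. -/
theorem cen_of_conj {d x t : G} (hD : IsRootInvolutionSet D) (hE : ClassSubgroups D) (hd : d ∈ D)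
    (ht : commutingMembers D (t * d * t⁻¹) = commutingMembers D d) (h : Cen D d (t * x * t⁻¹)) :
    Cen D d x := by
  intro w hw
  have hw' : t * w * t⁻¹ ∈ iso D d := by
    have := iso_conj hD t hw
    rwa [iso_congr ht] at this
  have he := h _ hw'
  rw [show t * x * t⁻¹ * (t * w * t⁻¹) * (t * x * t⁻¹) * (t * w * t⁻¹) =
    t * (x * w * x * w) * t⁻¹ by group] at he
  rcases (mem_same hE hd).1 he with h1 | ⟨heD, hC⟩
  · have : x * w * x * w = 1 := by simpa using h1
    rw [this]; exact one_mem _
  · refine Subgroup.subset_closure ⟨by simpa [mul_assoc] using hD.conj_mem _ heD t⁻¹, ?_⟩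
    have h2 := members_conj hD (ht.trans hC) t⁻¹
    simpa [mul_assoc] using h2

variable [Finite G]

section Brackets

variable (hD : IsRootInvolutionSet D) {d a b : G}

include hD

theorem bracket_sq (ha : a ∈ iso D d) (hb : b ∈ iso D d) :
    a * b * a * b * (a * b * a * b) = 1 := by
  rcases bracket_iso hD ha hb with ⟨-, h⟩ | ⟨-, h, -⟩
  · rw [h, mul_one]
  · exact sq_one hD (iso_mem h)

theorem bracket_symm (ha : a ∈ iso D d) (hb : b ∈ iso D d) :
    a * b * a * b = b * a * b * a := by
  rw [← inv_eq_of_mul_eq_one_right (bracket_sq hD ha hb)]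
  simp only [mul_inv_rev, inv_eq hD (iso_mem ha), inv_eq hD (iso_mem hb), mul_assoc]

theorem bracket_comm_left (ha : a ∈ iso D d) (hb : b ∈ iso D d) :
    Commute a (a * b * a * b) := by
  rcases bracket_iso hD ha hb with ⟨-, h⟩ | ⟨-, -, h, -⟩
  · rw [h]; exact Commute.one_right a
  · exact h.comm

theorem bracket_comm_right (ha : a ∈ iso D d) (hb : b ∈ iso D d) :
    Commute b (a * b * a * b) := by
  rcases bracket_iso hD ha hb with ⟨-, h⟩ | ⟨-, -, -, h⟩
  · rw [h]; exact Commute.one_right b
  · exact h.comm

theorem bracket_mem_iso (ha : a ∈ iso D d) (hb : b ∈ iso D d) (h1 : a * b * a * b ≠ 1) :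
    a * b * a * b ∈ iso D d := by
  rcases bracket_iso hD ha hb with ⟨-, h⟩ | ⟨-, h, -⟩
  · exact absurd h h1
  · exact h

end Brackets

namespace Frame

variable {d m y : G} (h : Frame D d m y)

include h

/-- The bracket of a value of `fmap` and an isolated member. -/
theorem value_facts {w e : G} (hw : w ∈ iso D d) (he : e ∈ sameCommutingSubgroup D d) :
    fmap y e * w * fmap y e * w * (fmap y e * w * fmap y e * w) = 1 ∧
      Commute w (fmap y e * w * fmap y e * w) ∧
      w * fmap y e * w = fmap y e * (fmap y e * w * fmap y e * w) ∧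
      (fmap y e * w * fmap y e * w ≠ 1 → fmap y e * w * fmap y e * w ∈ iso D d) := by
  have hD := h.root
  refine ⟨?_, ?_, by simp only [← mul_assoc, h.fmap_sq he, one_mul], ?_⟩ <;>
    by_cases he1 : e = 1
  · rw [he1, h.fmap_one, one_mul, mul_one, sq_one hD (iso_mem hw), mul_one]
  · exact bracket_sq hD (h.fmap_iso he he1) hw
  · rw [he1, h.fmap_one, one_mul, mul_one, sq_one hD (iso_mem hw)]; exact Commute.one_right w
  · exact bracket_comm_right hD (h.fmap_iso he he1) hw
  · intro hne
    exact absurd (by rw [he1, h.fmap_one, one_mul, mul_one, sq_one hD (iso_mem hw)]) hne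
  · exact bracket_mem_iso hD (h.fmap_iso he he1) hw

/-- Commuting an element of the class past an isolated member. -/
theorem same_bracket_one {w e : G} (hw : w ∈ iso D d) (he : e ∈ sameCommutingSubgroup D d) :
    e * w * e * w = 1 := by
  rw [(same_commute h.cls h.hd he (iso_mem hw) (iso_subset hw).2).eq, mul_assoc w e e,
    same_sq h.cls h.hd h.root he, mul_one, sq_one h.root (iso_mem hw)]

/-- A member with product of order four with `y`, its partner and their bracket `m`. -/
theorem four_value {w u : G} (hw : w ∈ iso D d) (hu : u ∈ iso D d) (hm : w * u * w * u = m)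
    (htw : Tri D w m) (htu : Tri D u m) (hwy : ¬ OddAdj D w y)
    (hE' : ∀ e ∈ sameCommutingSubgroup D d,
      fmap y e * w * fmap y e * w * u * (fmap y e * w * fmap y e * w) * u ∈
        sameCommutingSubgroup D d)
    {e : G} (he : e ∈ sameCommutingSubgroup D d) :
    fmap y e * w * fmap y e * w * u * (fmap y e * w * fmap y e * w) * u = e := by
  have hD := h.root
  have hwD := iso_mem hw
  have huD := iso_mem hu
  have hmD := h.mD
  have hyD := h.hy
  by_cases he1 : e = 1
  · rw [he1, h.fmap_one, one_mul, mul_one, sq_one hD hwD, one_mul, mul_one, sq_one hD huD]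
  obtain ⟨heD, hC⟩ := ((mem_same h.cls h.hd).1 he).resolve_left he1
  have hwyc : ¬ Commute w y := not_commute_of_adj hD htw h.adj
  obtain ⟨hw4, -⟩ := order_four hD hwD hyD hwy hwyc
  obtain ⟨htwp, htyp⟩ := tri_bracket hD hwD hyD hwy hwyc
  have hkey := key_pair hD htw hyD hw4 h.three
  set p := w * y * w * y with hp
  have hpD := htwp.right
  have hmpm : m * p * m = w * p := by
    calc m * p * m = m * p * m * p * p := by rw [mul_assoc _ p p, sq_one hD hpD, mul_one]
      _ = w * p := by rw [hkey]
  have hpmp : p * m * p = m * w := by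
    rw [← hkey]; simp only [mul_assoc, cancel hD hmD]
  have h3 : orderOf (u * p) = 3 := orderOf_eq_three hD htu htw.symm htwp.symm
    (by rw [← hm]; simp only [mul_assoc, cancel hD hwD]) hpmp
  have hup : OddAdj D u p := ⟨huD, hpD, fun e' => by
    rw [e', sq_one hD hpD, orderOf_one] at h3; omega, by rw [h3]; decide⟩
  have hnc : ¬ Commute p e := fun hc =>
    not_oddAdj_iso hu hpD ((commute_members_iff hC hpD).2 hc) hup
  have hew : Commute e w := same_commute h.cls h.hd he hwD (iso_subset hw).2
  have hno : ¬ OddAdj D e p := fun ho => not_commute_of_adj hD htwp (oddAdj_symm hD ho) hew.symm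
  obtain ⟨hteg, htpg⟩ := tri_bracket hD heD hpD hno (fun hc => hnc hc.symm)
  set g := e * p * e * p with hg
  set f := fmap y e with hf
  have hff : f * f = 1 := h.fmap_sq he
  have hef : Commute e f := h.same_comm_fmap he he
  -- the element `m y m`
  let τ : G → G := fun x => m * (y * (m * x * m) * y) * m
  have hτmul : ∀ x z : G, τ (x * z) = τ x * τ z := fun x z => by
    simp only [τ]
    rw [conj_mul hD hmD x z, conj_mul hD hyD, conj_mul hD hmD]
  have hτe : τ e = f := by
    simp only [τ]
    rw [conj_eq_of_commute hD hmD (h.m_comm_same he).symm, h.conj_same he, conj_mul hD hmD,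
      conj_eq_of_commute hD hmD (h.m_comm_same he).symm, h.m_conj_fmap he, ← hef.eq, ← mul_assoc,
      same_sq h.cls h.hd hD he, one_mul]
  have hywy : y * w * y = w * p := by rw [hp]; simp only [mul_assoc, cancel hD hwD]
  have hτw : τ w = p := by
    simp only [τ]
    rw [conj_eq_of_commute hD hmD htw.comm.symm, hywy, conj_mul hD hmD,
      conj_eq_of_commute hD hmD htw.comm.symm, hmpm, cancel hD hwD]
  have hfp : Commute f p := by
    show f * p = p * f
    rw [← hτe, ← hτw, ← hτmul, ← hτmul, hew.eq]
  have hyg : y * g * y = g := by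
    have hyp : y * p * y = p := conj_eq_of_commute hD hyD htyp.comm
    calc y * g * y = (y * e * y) * (y * p * y) * (y * e * y) * (y * p * y) := by
          rw [hg]; simp only [conj_mul hD hyD]
      _ = e * (f * p * e * f) * p := by rw [h.conj_same he, hyp, ← hf]; simp only [mul_assoc]
      _ = g := by
          rw [hfp.eq, mul_assoc p f e, ← hef.eq, show p * (e * f) * f = p * e * (f * f) by
            simp only [mul_assoc], hff, mul_one, hg]
          simp only [mul_assoc]
  have hmg : m * g * m = g := by
    calc m * g * m = (m * e * m) * (m * p * m) * (m * e * m) * (m * p * m) := by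
          rw [hg]; simp only [conj_mul hD hmD]
      _ = e * (w * (p * e) * w) * p := by
          rw [conj_eq_of_commute hD hmD (h.m_comm_same he).symm, hmpm]; simp only [mul_assoc]
      _ = g := by
          rw [conj_eq_of_commute hD hwD (htwp.comm.mul_right hew.symm), hg]
          simp only [mul_assoc]
  have hτg : τ g = g := by simp only [τ]; rw [hmg, hyg, hmg]
  have hτp : τ p = w := by
    rw [← hτw]
    simp only [τ, mul_assoc, cancel hD hmD, cancel hD hyD, sq_one hD hmD, mul_one]
  have hk : f * w * f * w = g := by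
    rw [← hτg, hg]
    simp only [hτmul, hτe, hτp]
  set α := g * u * g * u with hα
  have hαE : α ∈ sameCommutingSubgroup D d := by
    have := hE' e he
    rwa [← hf, hk] at this
  have hug : u * g * u = g * α := by rw [hα]; simp only [mul_assoc, cancel hD hteg.right]
  have hpep : p * e * p = e * g := by rw [hg]; simp only [mul_assoc, cancel hD heD]
  have hueu : u * e * u = e := conj_eq_of_commute hD huD
    (same_commute h.cls h.hd he huD (iso_subset hu).2).symm
  have hpg : p * g * p = g := conj_eq_of_commute hD hpD htpg.comm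
  have hb := braid hD huD hpD h3
  have hL : u * (p * (u * e * u) * p) * u = e * (g * α) := by
    rw [hueu, hpep, conj_mul hD huD, hueu, hug]
  have hR : p * (u * (p * e * p) * u) * p = e * (p * α * p) := by
    rw [hpep, conj_mul hD huD, hueu, hug, conj_mul hD hpD, hpep, conj_mul hD hpD, hpg,
      mul_assoc e g, ← mul_assoc g g, sq_one hD hteg.right, one_mul]
  have hLR : u * (p * (u * e * u) * p) * u = p * (u * (p * e * p) * u) * p := by
    rw [show u * (p * (u * e * u) * p) * u = (u * p * u) * e * (u * p * u) by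
      simp only [mul_assoc], hb]
    simp only [mul_assoc]
  rw [hL, hR] at hLR
  have hpα : p * α * p = g * α := (mul_left_cancel hLR).symm
  have hfix : p * (e * α) * p = e * α := by
    rw [conj_mul hD hpD, hpep, hpα, mul_assoc e g, ← mul_assoc g g, sq_one hD hteg.right,
      one_mul]
  have hone : e * α = 1 := by
    by_contra hne
    obtain ⟨-, hC'⟩ := ((mem_same h.cls h.hd).1 (mul_mem he hαE)).resolve_left hne
    exact hnc ((commute_members_iff (hC'.symm.trans hC) hpD).1
      (commute_of_conj_eq hD hpD hfix))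
  rw [hk]
  exact mul_left_cancel (hone.trans (same_sq h.cls h.hd hD he).symm)

/-- An isolated member forming an odd pair with `y`, some bracket in the class of `d`. -/
theorem false_of_adj {w : G} (hw : w ∈ iso D d) (hwy : OddAdj D w y) (hnc : ¬ Cen D d w)
    (hker : ∀ e ∈ sameCommutingSubgroup D d, e ≠ 1 →
      fmap y e * w * fmap y e * w ∈ sameCommutingSubgroup D d →
        ∃ u ∈ iso D d, w * u * w * u = e)
    {e₀ u₀ : G} (he₀ : e₀ ∈ sameCommutingSubgroup D d) (he₀1 : e₀ ≠ 1) (hu₀ : u₀ ∈ iso D d)
    (hwu₀ : w * u₀ * w * u₀ = e₀) : False := by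
  have hD := h.root
  have hwD := iso_mem hw
  have hmD := h.mD
  have hyD := h.hy
  let K : G → G := fun e => fmap y e * w * fmap y e * w
  let T : Set G := {e | e ∈ sameCommutingSubgroup D d ∧ e ≠ 1 ∧ ∃ u ∈ iso D d, w * u * w * u = e}
  have hTK : T ⊆ K '' T := by
    rintro e ⟨he, he1, u, hu, rfl⟩
    have hne : ¬ Commute w u := fun hc => he1 (by
      rw [hc.eq, mul_assoc u w w, sq_one hD hwD, mul_one, sq_one hD (iso_mem hu)])
    have ht := (tri_bracket hD hwD (iso_mem hu)
      (not_oddAdj_iso hw (iso_mem hu) (iso_subset hu).2) hne).1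
    obtain ⟨e', he', hval⟩ := h.exists_value hw hwy he he1 ht
    have he'1 : e' ≠ 1 := fun h1 => he1 (by
      rw [← hval, h1, h.fmap_one, one_mul, mul_one, sq_one hD hwD])
    exact ⟨e', ⟨he', he'1, hker e' he' he'1 (hval ▸ he)⟩, hval⟩
  have hKT : K '' T = T :=
    (Set.eq_of_subset_of_ncard_le hTK (Set.ncard_image_le (Set.toFinite T)) (Set.toFinite _)).symm
  have hsub : Subgroup.closure T ≤ sameCommutingSubgroup D d :=
    (Subgroup.closure_le _).2 fun e he => he.1
  have hwf : ∀ e ∈ sameCommutingSubgroup D d, w * fmap y e * w = fmap y e * K e := fun e he =>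
    (h.value_facts hw he).2.2.1
  have hK0 : ∀ x ∈ Subgroup.closure T, K x ∈ Subgroup.closure T := by
    intro x hx
    induction hx using Subgroup.closure_induction with
    | mem e he => exact Subgroup.subset_closure (hKT ▸ Set.mem_image_of_mem K he)
    | one => simp only [K, h.fmap_one, one_mul, mul_one, sq_one hD hwD]; exact one_mem _
    | mul x x' hx hx' hKx hKx' =>
      have h1 : Commute (fmap y x') (w * fmap y x * w) := by
        rw [hwf x (hsub hx)]
        exact (h.fmap_comm (hsub hx') (hsub hx)).mul_right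
          (h.same_comm_fmap (hsub hKx) (hsub hx')).symm
      have h2 : K (x * x') = K x * K x' := by
        simp only [K]
        rw [h.fmap_mul (hsub hx) (hsub hx'), show fmap y x * fmap y x' * w * (fmap y x * fmap y x') *
          w = fmap y x * fmap y x' * (w * (fmap y x * fmap y x') * w) by simp only [mul_assoc],
          conj_mul hD hwD, h1.mul_mul_mul_comm]
        simp only [mul_assoc]
      rw [h2]; exact mul_mem hKx hKx'
    | inv x hx hKx => rwa [inv_eq_of_mul_eq_one_right (same_sq h.cls h.hd hD (hsub hx))]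
  let P : G → Prop := fun z =>
    ∃ x ∈ Subgroup.closure T, ∃ x' ∈ Subgroup.closure T, z = x * fmap y x'
  have hPy : ∀ z, P z → P (y * z * y) := by
    rintro z ⟨x, hx, x', hx', rfl⟩
    refine ⟨x, hx, x * x', mul_mem hx hx', ?_⟩
    rw [conj_mul hD hyD, h.conj_same (hsub hx), h.fmap_fix (hsub hx'),
      h.fmap_mul (hsub hx) (hsub hx'), mul_assoc]
  have hPw : ∀ z, P z → P (w * z * w) := by
    rintro z ⟨x, hx, x', hx', rfl⟩
    refine ⟨x * K x', mul_mem hx (hK0 x' hx'), x', hx', ?_⟩
    rw [conj_mul hD hwD, conj_eq_of_commute hD hwD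
      (same_commute h.cls h.hd (hsub hx) hwD (iso_subset hw).2).symm, hwf x' (hsub hx'),
      ← (h.same_comm_fmap (hsub (hK0 x' hx')) (hsub hx')).eq]
    exact (mul_assoc _ _ _).symm
  obtain ⟨g, hgH, hg⟩ := conj_in hD hwy
    (H := Subgroup.closure ({w, y} : Set G)) (Subgroup.subset_closure (Or.inl rfl))
    (Subgroup.subset_closure (Or.inr rfl))
  have hgen : ∀ a ∈ ({w, y} : Set G), ∀ z, P z → P (a * z * a⁻¹) := by
    rintro a (rfl | rfl) z hz
    · rw [inv_eq hD hwD]; exact hPw z hz
    · rw [inv_eq hD hyD]; exact hPy z hz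
  have hPg : ∀ z, P z → P (g * z * g⁻¹) := by
    clear hg
    induction hgH using Subgroup.closure_induction_left with
    | one => intro z hz; simpa using hz
    | mul_left a ha b _ ih =>
      intro z hz
      rw [show a * b * z * (a * b)⁻¹ = a * (b * z * b⁻¹) * a⁻¹ by group]
      exact hgen a ha _ (ih z hz)
    | inv_mul_cancel a ha b _ ih =>
      intro z hz
      have ha' : a⁻¹ = a := by
        rcases ha with rfl | rfl
        · exact inv_eq hD hwD
        · exact inv_eq hD hyD
      rw [ha', show a * b * z * (a * b)⁻¹ = a * (b * z * b⁻¹) * a⁻¹ by group]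
      exact hgen a ha _ (ih z hz)
  have he₀T : e₀ ∈ T := ⟨he₀, he₀1, u₀, hu₀, hwu₀⟩
  obtain ⟨x, hx, x', hx', hz⟩ := hPg e₀ ⟨e₀, Subgroup.subset_closure he₀T, 1, one_mem _,
    by rw [h.fmap_one, mul_one]⟩
  have hfixz : y * (g * e₀ * g⁻¹) * y = g * e₀ * g⁻¹ := by
    rw [← hg]
    have : w * e₀ * w = e₀ := conj_eq_of_commute hD hwD
      (same_commute h.cls h.hd he₀ hwD (iso_subset hw).2).symm
    calc g * w * g⁻¹ * (g * e₀ * g⁻¹) * (g * w * g⁻¹) = g * (w * e₀ * w) * g⁻¹ := by group
      _ = _ := by rw [this]
  rw [hz, conj_mul hD hyD, h.conj_same (hsub hx), h.fmap_fix (hsub hx'), mul_assoc,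
    ← h.fmap_mul (hsub hx) (hsub hx')] at hfixz
  have hx1 : x = 1 := mul_right_cancel ((h.fmap_inj (mul_mem (hsub hx) (hsub hx')) (hsub hx')
    (mul_left_cancel hfixz)).trans (one_mul x').symm)
  rw [hx1, one_mul] at hz
  have hx'1 : x' ≠ 1 := fun h1 => he₀1 (by
    rw [h1, h.fmap_one] at hz
    simpa using hz)
  have hτ' : m * y * m * fmap y x' * (m * y * m)⁻¹ = x' := by
    calc m * y * m * fmap y x' * (m * y * m)⁻¹ = m * (y * (m * fmap y x' * m) * y) * m := by
          simp only [mul_inv_rev, inv_eq hD hmD, inv_eq hD hyD, mul_assoc]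
      _ = m * (y * (fmap y x' * x') * y) * m := by rw [h.m_conj_fmap (hsub hx')]
      _ = m * x' * m := by
          rw [conj_mul hD hyD, h.fmap_fix (hsub hx'), h.conj_same (hsub hx'),
            (h.same_comm_fmap (hsub hx') (hsub hx')).eq, ← mul_assoc (fmap y x') (fmap y x') x',
            h.fmap_sq (hsub hx'),
            one_mul]
      _ = x' := conj_eq_of_commute hD hmD (h.m_comm_same (hsub hx')).symm
  have htw : m * y * m * g * w * (m * y * m * g)⁻¹ = m := by
    rw [show m * y * m * g * w * (m * y * m * g)⁻¹ =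
      m * y * m * (g * w * g⁻¹) * (m * y * m)⁻¹ by group, hg]
    calc m * y * m * y * (m * y * m)⁻¹ = m * (y * (m * y * m) * y) * m := by
          simp only [mul_inv_rev, inv_eq hD hmD, inv_eq hD hyD, mul_assoc]
      _ = m := by
          rw [h.braid_my]
          simp only [mul_assoc, cancel hD hyD, sq_one hD hyD, sq_one hD hmD, one_mul, mul_one]
  have htd : m * y * m * g * e₀ * (m * y * m * g)⁻¹ = x' := by
    rw [show m * y * m * g * e₀ * (m * y * m * g)⁻¹ =
      m * y * m * (g * e₀ * g⁻¹) * (m * y * m)⁻¹ by group, hz, hτ']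
  obtain ⟨-, hC₀⟩ := ((mem_same h.cls h.hd).1 he₀).resolve_left he₀1
  obtain ⟨-, hC'⟩ := ((mem_same h.cls h.hd).1 (hsub hx')).resolve_left hx'1
  refine hnc (cen_of_conj (t := m * y * m * g) hD h.cls h.hd ?_ (by rw [htw]; exact h.cen))
  rw [members_conj hD hC₀ (m * y * m * g), htd, hC']

/-- The decomposition of `e` as the sum of the two double brackets. -/
theorem sum_eq {a b : G} (ha : a ∈ iso D d) (hb : b ∈ iso D d) (hm : a * b * a * b = m)
    (hsp : ∀ w ∈ iso D d, Cen D d (a * w * a * w)) {e : G}
    (he : e ∈ sameCommutingSubgroup D d) :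
    fmap y e * a * fmap y e * a * b * (fmap y e * a * fmap y e * a) * b ∈
        sameCommutingSubgroup D d ∧
      fmap y e * b * fmap y e * b * a * (fmap y e * b * fmap y e * b) * a =
        fmap y e * a * fmap y e * a * b * (fmap y e * a * fmap y e * a) * b * e := by
  have hD := h.root
  have haD := iso_mem ha
  have hbD := iso_mem hb
  obtain ⟨hkk, hka, haf, -⟩ := h.value_facts ha he
  obtain ⟨hll, hlb, hbf, -⟩ := h.value_facts hb he
  have hcenk : Cen D d (fmap y e * a * fmap y e * a) := by
    by_cases he1 : e = 1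
    · rw [he1, h.fmap_one, one_mul, mul_one, sq_one hD haD]; exact cen_one hD
    · rw [← bracket_symm hD ha (h.fmap_iso he he1)]; exact hsp _ (h.fmap_iso he he1)
  have hkl : Commute (fmap y e * a * fmap y e * a) (fmap y e * b * fmap y e * b) := by
    by_cases he1 : e = 1
    · simp only [he1, h.fmap_one, one_mul, mul_one, sq_one hD haD, sq_one hD hbD]
      exact Commute.one_left _
    · exact cen_commute_bracket hD h.cls h.hd hkk hcenk (h.fmap_iso he he1) hb
  have hαE := hcenk b hb
  refine ⟨hαE, ?_⟩
  have hlmem : fmap y e * b * fmap y e * b ∈ isoGroup D d :=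
    have h1 : fmap y e ∈ isoGroup D d := h.fmap_mem he
    have h2 : b ∈ isoGroup D d := Subgroup.subset_closure hb
    mul_mem (mul_mem (mul_mem h1 h2) h1) h2
  set f := fmap y e with hf
  set k := f * a * f * a with hk
  set l := f * b * f * b with hl
  set α := k * b * k * b with hα
  set β := l * a * l * a with hβ
  have hbk : b * k * b = k * α := by rw [hα]; simp only [← mul_assoc, hkk, one_mul]
  have hal : a * l * a = l * β := by rw [hβ]; simp only [← mul_assoc, hll, one_mul]
  have hak : a * k * a = k := conj_eq_of_commute hD haD hka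
  have hbl : b * l * b = l := conj_eq_of_commute hD hbD hlb
  have haα : a * α * a = α := conj_eq_of_commute hD haD
    (same_commute h.cls h.hd hαE haD (iso_subset ha).2).symm
  have hlα : Commute l α := (same_commute_group h.cls h.hd hαE hlmem).symm
  have hbeq : a * (b * (a * (b * f * b) * a) * b) * a = f * α * (a * (b * β * b) * a) := by
    rw [hbf, conj_mul hD haD f l, haf, hal, conj_mul hD hbD (f * k) (l * β),
      conj_mul hD hbD f k, hbf, hbk, conj_mul hD hbD l β, hbl,
      show f * l * (k * α) * (l * (b * β * b)) = f * (l * (k * α) * l) * (b * β * b) by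
        simp only [mul_assoc],
      show l * (k * α) * l = k * α by
        rw [(hkl.symm.mul_right hlα).eq, mul_assoc, hll, mul_one],
      conj_mul hD haD (f * (k * α)) (b * β * b), conj_mul hD haD f (k * α), haf,
      conj_mul hD haD k α, hak, haα,
      show f * k * (k * α) = f * (k * k) * α by simp only [mul_assoc], hkk, mul_one]
  have hmfm : m * f * m = a * (b * (a * (b * f * b) * a) * b) * a := by
    conv_lhs => rw [← hm]; arg 2; rw [bracket_symm hD ha hb]
    simp only [mul_assoc]
  rw [h.m_conj_fmap he, hbeq, mul_assoc] at hmfm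
  have h1 : e = α * (a * (b * β * b) * a) := mul_left_cancel hmfm
  have h2 : a * (b * β * b) * a = α * e := by
    rw [h1, ← mul_assoc α α, same_sq h.cls h.hd hD hαE, one_mul]
  have hαe := mul_mem hαE he
  calc β = b * (a * (a * (b * β * b) * a) * a) * b := by
        rw [conj_conj hD haD, conj_conj hD hbD]
    _ = α * e := by
        rw [h2, conj_eq_of_commute hD haD
          (same_commute h.cls h.hd hαe haD (iso_subset ha).2).symm,
          conj_eq_of_commute hD hbD (same_commute h.cls h.hd hαe hbD (iso_subset hb).2).symm]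

/-- The two members `a`, `b` with bracket `m` lead to a contradiction. -/
theorem false_of_special {a b : G} (ha : a ∈ iso D d) (hb : b ∈ iso D d)
    (hm : a * b * a * b = m) (hne : m ∉ sameCommutingSubgroup D d)
    (hsp : ∀ w ∈ iso D d, Cen D d (a * w * a * w)) : False := by
  have hD := h.root
  have haD := iso_mem ha
  have hbD := iso_mem hb
  have hm' : b * a * b * a = m := (bracket_symm hD ha hb).symm.trans hm
  obtain ⟨hta, htb⟩ : Tri D a m ∧ Tri D b m := by
    rcases bracket_iso hD ha hb with ⟨-, h1⟩ | ⟨-, -, h1, h2⟩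
    · exact absurd (by rw [← hm, h1]; exact one_mem _) hne
    · exact hm ▸ ⟨h1, h2⟩
  have hna : ¬ Cen D d a := fun hh => hne (hm ▸ hh b hb)
  have hnb : ¬ Cen D d b := fun hh => hne (hm' ▸ hh a ha)
  have hd := self_mem_same h.hd
  have hd1 := ne_one hD h.hd
  -- a bracket of `a` resp. `b` equal to a given element of the class
  have mkb : ∀ e : G, e ∈ sameCommutingSubgroup D d → e ≠ 1 →
      fmap y e * a * fmap y e * a * b * (fmap y e * a * fmap y e * a) * b = e →
        ∃ u ∈ iso D d, b * u * b * u = e := by
    intro e he he1 hv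
    have hk1 : fmap y e * a * fmap y e * a ≠ 1 := fun h1 => he1 (by
      rw [← hv, h1, one_mul, mul_one, sq_one hD hbD])
    have hkI := (h.value_facts ha he).2.2.2 hk1
    exact ⟨_, hkI, (bracket_symm hD hb hkI).trans hv⟩
  have mka : ∀ e : G, e ∈ sameCommutingSubgroup D d → e ≠ 1 →
      fmap y e * b * fmap y e * b * a * (fmap y e * b * fmap y e * b) * a ≠ 1 →
      ∃ u ∈ iso D d, a * u * a * u =
        fmap y e * b * fmap y e * b * a * (fmap y e * b * fmap y e * b) * a := by
    intro e he he1 hv
    have hl1 : fmap y e * b * fmap y e * b ≠ 1 := fun h1 => hv (by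
      rw [h1, one_mul, mul_one, sq_one hD haD])
    have hlI := (h.value_facts hb he).2.2.2 hl1
    exact ⟨_, hlI, bracket_symm hD ha hlI⟩
  have hkera : ∀ e ∈ sameCommutingSubgroup D d, e ≠ 1 →
      fmap y e * a * fmap y e * a ∈ sameCommutingSubgroup D d →
        ∃ u ∈ iso D d, a * u * a * u = e := by
    intro e he he1 hkE
    have hβ := (h.sum_eq ha hb hm hsp he).2
    rw [h.same_bracket_one hb hkE, one_mul] at hβ
    obtain ⟨u, hu, hv⟩ := mka e he he1 (by rw [hβ]; exact he1)
    exact ⟨u, hu, hv.trans hβ⟩
  have hkerb : ∀ e ∈ sameCommutingSubgroup D d, e ≠ 1 →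
      fmap y e * b * fmap y e * b ∈ sameCommutingSubgroup D d →
        ∃ u ∈ iso D d, b * u * b * u = e := by
    intro e he he1 hlE
    obtain ⟨hα, hβ⟩ := h.sum_eq ha hb hm hsp he
    rw [h.same_bracket_one ha hlE] at hβ
    refine mkb e he he1 ?_
    exact (eq_inv_of_mul_eq_one_left hβ.symm).trans
      (inv_eq_of_mul_eq_one_right (same_sq h.cls h.hd hD he))
  have hsumE : ∀ e ∈ sameCommutingSubgroup D d,
      fmap y e * b * fmap y e * b * a * (fmap y e * b * fmap y e * b) * a ∈
        sameCommutingSubgroup D d := fun e he => by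
    rw [(h.sum_eq ha hb hm hsp he).2]
    exact mul_mem (h.sum_eq ha hb hm hsp he).1 he
  obtain ⟨hαd, hβd⟩ := h.sum_eq ha hb hm hsp hd
  have hbfour : ¬ OddAdj D b y →
      fmap y d * a * fmap y d * a * b * (fmap y d * a * fmap y d * a) * b = d → False := by
    intro hby hαeq
    have := h.four_value hb ha hm' htb hta hby hsumE hd
    rw [hβd, hαeq, sq_one hD h.hd] at this
    exact hd1 this.symm
  have hbadj : OddAdj D b y →
      fmap y d * a * fmap y d * a * b * (fmap y d * a * fmap y d * a) * b = d → False := by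
    intro hby hαeq
    obtain ⟨u, hu, hv⟩ := mkb d hd hd1 hαeq
    exact h.false_of_adj hb hby hnb hkerb hd hd1 hu hv
  by_cases hay : OddAdj D a y
  · by_cases hβ1 : fmap y d * b * fmap y d * b * a * (fmap y d * b * fmap y d * b) * a = 1
    · have hαeq : fmap y d * a * fmap y d * a * b * (fmap y d * a * fmap y d * a) * b = d := by
        rw [hβd] at hβ1
        exact (eq_inv_of_mul_eq_one_left hβ1).trans (inv_eq hD h.hd)
      by_cases hby : OddAdj D b y
      · exact hbadj hby hαeq
      · exact hbfour hby hαeq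
    · obtain ⟨u, hu, hv⟩ := mka d hd hd1 hβ1
      exact h.false_of_adj ha hay hna hkera (hsumE d hd) hβ1 hu hv
  · have hαeq := h.four_value ha hb hm hta htb hay
      (fun e he => (h.sum_eq ha hb hm hsp he).1) hd
    by_cases hby : OddAdj D b y
    · exact hbadj hby hαeq
    · exact hbfour hby hαeq

end Frame

end CfsgLib.Perm.RootStructure
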