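import Cfsg.Agent.Lib.Perm.RootStructure.Core

/-!
# The structure of the group of isolated members commuting with a root involution

In a class of root involutions whose classes of equal commuting members form subgroups with `1`,
the isolated members commuting with `d` are `d` and its product partners, and the group they
generate has commutator subgroup `E(d)` when some pair has product of order four.
-/

set_option autoImplicit false

namespace CfsgLib.Perm.RootStructure

open Cfsg CfsgLib.Perm.RootInvolution
open scoped commutatorElement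

variable {G : Type*} [Group G] [Finite G] {D : Set G}

section Fixed

variable (hD : IsRootInvolutionSet D) (hc : IsConnectedSet (OddAdj D) D) {d : G} (hd : d ∈ D)

include hD hc hd

/-- An isolated member centralising all product partners of `d` is in the class of `d`. -/
theorem same_of_central {w : G} (hw : w ∈ iso D d)
    (h : ∀ u ∈ productPartners D d, Commute w u) :
    commutingMembers D d = commutingMembers D w := by
  refine (oddPartners_eq_iff hD hc hd (iso_mem hw)).1 (Eq.symm ?_)
  refine Set.eq_of_subset_of_ncard_le (fun z hz => ?_)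
    (ncard_oddPartners hD hc hd (iso_mem hw)).le (Set.toFinite _)
  rw [mem_oddPartners hD (iso_mem hw)] at hz
  rw [mem_oddPartners hD hd]
  by_contra hno
  have hnc : ¬ Commute d z := fun hh => not_oddAdj_iso hw hz.2.1 hh.symm hz
  obtain ⟨htd, htz⟩ := tri_bracket hD hd hz.2.1 hno hnc
  exact not_commute_of_adj hD htz.symm (oddAdj_symm hD hz) (h _ (htd.partner hD)).symm

variable (hE : ClassSubgroups D)

include hE

/-- All squares of products of isolated members lie in `E(d)`. -/
theorem cen_all {x : G} (hx : x ∈ iso D d) : Cen D d x := by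
  refine CfsgLib.LocalEven.RootReduction.descend (P := Cen D d) hD (fun w hw => iso_mem hw)
    (isPGroup_isoGroup hD) (fun c hc' b hb hcb => ?_) (fun c hc' hstep => ?_) x hx
  · rcases bracket_iso hD hc' hb with ⟨h1, -⟩ | ⟨-, h2, -⟩
    · exact absurd h1 hcb
    · exact h2
  by_contra hcon
  simp only [Cen, not_forall] at hcon
  obtain ⟨b, hb, hne⟩ := hcon
  have hcb : ¬ Commute c b := fun h1 => hne (by
    rw [h1.eq, mul_assoc b c c, sq_one hD (iso_mem hc'), mul_one, sq_one hD (iso_mem hb)]
    exact one_mem _)
  have hm : c * b * c * b ∈ iso D d := by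
    rcases bracket_iso hD hc' hb with ⟨h1, -⟩ | ⟨-, h2, -⟩
    · exact absurd h1 hcb
    · exact h2
  have hR : Cen D d (c * b * c * b) := hstep b hb hcb
  have hsp : ∀ w ∈ iso D d, Cen D d (c * w * c * w) := fun w hw => by
    by_cases h1 : Commute c w
    · rw [h1.eq, mul_assoc w c c, sq_one hD (iso_mem hc'), mul_one, sq_one hD (iso_mem hw)]
      exact cen_one hD
    · exact hstep w hw h1
  obtain ⟨u, hu, hmu⟩ : ∃ u ∈ productPartners D d, ¬ Commute (c * b * c * b) u := by
    by_contra hall
    simp only [not_exists, not_and, not_not] at hall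
    exact hne (Subgroup.subset_closure ⟨iso_mem hm, same_of_central hD hc hd hm hall⟩)
  have huI := partner_mem_iso hD hd hu
  obtain ⟨-, heI, hte, -⟩ := (bracket_iso hD hm huI).resolve_left fun h1 => hmu h1.1
  have he := hR u huI
  have he1 := ne_one hD (iso_mem heI)
  generalize c * b * c * b * u * (c * b * c * b) * u = e at he he1 heI hte
  obtain ⟨-, hC⟩ := ((mem_same hE hd).1 he).resolve_left he1
  have hne' : c * b * c * b ∉ sameCommutingSubgroup D e := fun h1 => hne (same_congr hC ▸ h1)
  obtain ⟨y, hy⟩ := exists_frame hD hc hE (iso_mem heI) (iso_congr hC ▸ hm)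
    ((cen_congr hC).1 hR) hte hne'
  exact hy.false_of_special (iso_congr hC ▸ hc') (iso_congr hC ▸ hb) rfl hne'
    fun w hw => (cen_congr hC).1 (hsp w (iso_congr hC ▸ hw))

/-- The isolated members are `d` and its product partners. -/
theorem iso_eq : iso D d = productPartners D d ∪ {d} := by
  refine Set.Subset.antisymm (fun w hw => ?_) ?_
  swap
  · rintro w (hw | rfl)
    · exact partner_mem_iso hD hd hw
    · exact same_mem_iso hE hd hD (self_mem_same hd) (ne_one hD hd)
  by_cases hwd : w = d
  · exact Or.inr hwd
  refine Or.inl ⟨⟨iso_mem hw, (iso_subset hw).2, hwd⟩, ?_⟩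
  have hwdc : Commute w d := (iso_subset hw).2
  by_cases hCw : commutingMembers D d = commutingMembers D w
  · have h1 : w * d ∈ sameCommutingSubgroup D d :=
      mul_mem (Subgroup.subset_closure ⟨iso_mem hw, hCw⟩) (self_mem_same hd)
    have h2 : w * d ≠ 1 := fun h3 => hwd (by
      rw [← mul_one w, ← sq_one hD hd, ← mul_assoc, h3, one_mul])
    exact (((mem_same hE hd).1 h1).resolve_left h2).1
  obtain ⟨u, hu, hwu⟩ : ∃ u ∈ productPartners D d, ¬ Commute w u := by
    by_contra hall
    simp only [not_exists, not_and, not_not] at hall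
    exact hCw (same_of_central hD hc hd hw hall)
  have huI := partner_mem_iso hD hd hu
  have hR := cen_all hD hc hd hE hw
  obtain ⟨-, heI, hte, -⟩ := (bracket_iso hD hw huI).resolve_left fun h1 => hwu h1.1
  have he := hR u huI
  generalize w * u * w * u = e at he heI hte
  obtain ⟨-, hC⟩ := ((mem_same hE hd).1 he).resolve_left (ne_one hD (iso_mem heI))
  obtain ⟨y, hy⟩ := exists_frame hD hc hE (iso_mem heI) (iso_congr hC ▸ hw)
    ((cen_congr hC).1 hR) hte (fun h1 => hCw ((((mem_same hE hd).1
      (same_congr hC ▸ h1)).resolve_left (ne_one hD (iso_mem hw))).2))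
  have hdE : d ∈ sameCommutingSubgroup D e := same_congr hC ▸ self_mem_same hd
  have hfD := (hy.fmap_tri hdE (ne_one hD hd)).1.right
  have h3 := hy.m_conj_fmap hdE
  have h4 : fmap y d * w * fmap y d = d * w := by
    calc fmap y d * w * fmap y d = fmap y d * (w * fmap y d * w) * w := by
          simp only [mul_assoc, sq_one hD (iso_mem hw), mul_one]
      _ = d * w := by rw [h3, cancel hD hfD]
  rw [hwdc.eq, ← h4]
  exact conj_self_mem hD hfD (iso_mem hw)

/-- Commutators of the group of isolated members lie in `E(d)`. -/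
theorem commutator_le : ⁅isoGroup D d, isoGroup D d⁆ ≤ sameCommutingSubgroup D d := by
  rw [Subgroup.commutator_le]
  intro g hg
  induction hg using Subgroup.closure_induction_left with
  | one => intro v _; rw [commutatorElement_one_left]; exact one_mem _
  | mul_left a ha b hb ih =>
    intro v hv
    obtain ⟨e, he, h1⟩ := cen_group hD hE hd (sq_one hD (iso_mem ha))
      (cen_all hD hc hd hE ha) hv
    have hih := ih v hv
    rw [commutatorElement_def] at hih ⊢
    rw [show a * b * v * (a * b)⁻¹ * v⁻¹ =
      a * (b * v * b⁻¹ * v⁻¹) * a⁻¹ * (a * v * a⁻¹ * v⁻¹) by group, inv_eq hD (iso_mem ha),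
      conj_eq_of_commute hD (iso_mem ha)
        (same_commute hE hd hih (iso_mem ha) (iso_subset ha).2).symm, h1,
      show v * e * v⁻¹ = e by
        rw [← (same_commute_group hE hd he hv).eq, mul_inv_cancel_right]]
    exact mul_mem hih he
  | inv_mul_cancel a ha b hb ih =>
    intro v hv
    obtain ⟨e, he, h1⟩ := cen_group hD hE hd (sq_one hD (iso_mem ha))
      (cen_all hD hc hd hE ha) hv
    have hih := ih v hv
    rw [inv_eq hD (iso_mem ha)]
    rw [commutatorElement_def] at hih ⊢
    rw [show a * b * v * (a * b)⁻¹ * v⁻¹ =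
      a * (b * v * b⁻¹ * v⁻¹) * a⁻¹ * (a * v * a⁻¹ * v⁻¹) by group, inv_eq hD (iso_mem ha),
      conj_eq_of_commute hD (iso_mem ha)
        (same_commute hE hd hih (iso_mem ha) (iso_subset ha).2).symm, h1,
      show v * e * v⁻¹ = e by
        rw [← (same_commute_group hE hd he hv).eq, mul_inv_cancel_right]]
    exact mul_mem hih he

/-- With a pair of product order four the commutator subgroup is all of `E(d)`. -/
theorem commutator_eq (hcl : IsRootInvolutionClass D) {a₀ b₀ : G} (ha₀ : a₀ ∈ D) (hb₀ : b₀ ∈ D)
    (h4 : orderOf (a₀ * b₀) = 4) :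
    ⁅isoGroup D d, isoGroup D d⁆ = sameCommutingSubgroup D d := by
  refine le_antisymm (commutator_le hD hc hd hE) ((Subgroup.closure_le _).2 ?_)
  rintro e ⟨heD, hC⟩
  obtain ⟨hnc, hno⟩ := four_pair hD ha₀ hb₀ h4
  obtain ⟨hta, htb⟩ := tri_bracket hD ha₀ hb₀ hno hnc
  obtain ⟨g, hg⟩ := hcl.2.2 _ hta.right e heD
  have hmem : ∀ x, Tri D x (a₀ * b₀ * a₀ * b₀) → g * x * g⁻¹ ∈ isoGroup D d := fun x hx => by
    refine Subgroup.subset_closure ?_
    rw [iso_congr hC]
    have h' := hx.conj hD g
    rw [← hg] at h'
    exact partner_mem_iso hD heD (h'.symm.partner hD)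
  have he : ⁅g * a₀ * g⁻¹, g * b₀ * g⁻¹⁆ = e := by
    rw [commutatorElement_def, inv_eq hD (hD.conj_mem a₀ ha₀ g),
      inv_eq hD (hD.conj_mem b₀ hb₀ g), hg]
    group
  rw [← he]
  exact Subgroup.commutator_mem_commutator (hmem _ hta) (hmem _ htb)

/-- The members of the class of `d` are the isolated ones central in their group. -/
theorem sameCommutingClass_eq :
    sameCommutingClass D d = {e | e ∈ D ∧ e ∈ isoGroup D d ∧
      ∀ v ∈ isoGroup D d, e * v = v * e} := by
  ext e
  constructor
  · intro he
    have he' : e ∈ sameCommutingSubgroup D d := Subgroup.subset_closure he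
    exact ⟨he.1, same_mem_group hE hd hD he', fun v hv => same_commute_group hE hd he' hv⟩
  · rintro ⟨heD, heN, hcen⟩
    have hed : Commute e d := hcen d (same_mem_group hE hd hD (self_mem_same hd))
    refine ⟨heD, same_of_central hD hc hd (mem_iso_of_mem_group hD heD hed heN) fun u hu => ?_⟩
    exact hcen u (Subgroup.subset_closure (partner_mem_iso hD hd hu))

end Fixed

end CfsgLib.Perm.RootStructure
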