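import Cfsg.Agent.Lib.Perm.RootStructure.Basic

/-!
# A pair of odd order three beside a member with `Cen`

For an isolated `m` with `Cen` and a member `y` with `d y` of order four and `m y` of order three,
the map `e ↦ (e y)²` on `E(d)` has values centralising `y` and `m` moves each value by `e`.
-/

set_option autoImplicit false

namespace CfsgLib.Perm.RootStructure

open Cfsg CfsgLib.Perm.RootInvolution

variable {G : Type*} [Group G] {D : Set G}

/-- A product of order four: the two members neither commute nor form an odd pair. -/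
theorem four_pair (hD : IsRootInvolutionSet D) {a b : G} (ha : a ∈ D) (hb : b ∈ D)
    (h4 : orderOf (a * b) = 4) : ¬ Commute a b ∧ ¬ OddAdj D a b := by
  refine ⟨fun h => ?_, fun h => ?_⟩
  · have h2 : (a * b) ^ 2 = 1 := by
      rw [h.mul_pow, pow_two, pow_two, sq_one hD ha, sq_one hD hb, one_mul]
    have := Nat.le_of_dvd (by norm_num) (orderOf_dvd_of_pow_eq_one h2)
    omega
  · have h' := h.2.2.2
    rw [h4] at h'
    exact (by decide : ¬ Odd 4) h'

/-- Distribute conjugation by an involution over a product. -/
theorem conj_mul (hD : IsRootInvolutionSet D) {g : G} (hg : g ∈ D) (u v : G) :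
    g * (u * v) * g = g * u * g * (g * v * g) := by simp only [mul_assoc, cancel hD hg]

/-- The braid relation of two members with product of order three. -/
theorem braid (hD : IsRootInvolutionSet D) {a b : G} (ha : a ∈ D) (hb : b ∈ D)
    (h3 : orderOf (a * b) = 3) : a * b * a = b * a * b := by
  have h : (a * b) ^ 3 = 1 := h3 ▸ pow_orderOf_eq_one _
  calc a * b * a = (a * b) ^ 3 * (b * a * b) := by
        simp only [pow_succ, pow_zero, one_mul, mul_assoc, cancel hD hb, cancel hD ha,
          sq_one hD hb, mul_one]
    _ = b * a * b := by rw [h, one_mul]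

/-- A triple `d, e` and `y` with `d y` of order four and `e y` of order three: `e` moves `(d y)²`
by `d`. -/
theorem key_pair (hD : IsRootInvolutionSet D) {d e y : G} (hde : Tri D d e) (hy : y ∈ D)
    (h4 : orderOf (d * y) = 4) (h3 : orderOf (e * y) = 3) :
    e * (d * y * d * y) * e * (d * y * d * y) = d := by
  have hd := hde.left
  have heD := hde.right
  obtain ⟨hdyc, hdy'⟩ := four_pair hD hd hy h4
  obtain ⟨htd, hty⟩ := tri_bracket hD hd hy hdy' hdyc
  have heyo : OddAdj D e y := ⟨heD, hy, fun h => by
    rw [h, sq_one hD hy, orderOf_one] at h3; omega, by rw [h3]; decide⟩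
  have hdey : OddAdj D (d * e) y := (adj_or hD hde heyo).resolve_left hdy'
  have hbraid := braid hD heD hy h3
  set f := d * y * d * y with hf
  have hdf : d * f = y * d * y := by rw [hf]; simp only [mul_assoc, cancel hD hd]
  have key : (d * e * y) ^ 3 = d * (e * f * e * f) := by
    calc (d * e * y) ^ 3 = d * e * y * (d * e * y) * (d * e * y) := by
          simp only [pow_succ, pow_zero, one_mul, mul_assoc]
      _ = e * d * y * (d * e * y) * (e * d * y) := by rw [hde.comm.eq]
      _ = e * (d * y * d) * (e * y * e) * (d * y) := by simp only [mul_assoc]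
      _ = e * (d * y * d * y) * e * (y * d * y) := by rw [hbraid]; simp only [mul_assoc]
      _ = e * f * e * (d * f) := by rw [← hdf]
      _ = d * (e * f * e * f) := by
          have hc' : Commute d (e * f * e) := (hde.comm.mul_right htd.comm).mul_right hde.comm
          rw [← mul_assoc (e * f * e), ← hc'.eq]
          simp only [mul_assoc]
  have hdh : Commute d (e * f * e * f) :=
    ((hde.comm.mul_right htd.comm).mul_right hde.comm).mul_right htd.comm
  have hef' : ¬ OddAdj D e f := fun h => not_commute_of_adj hD hde h htd.comm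
  have hsq : (e * f * e * f) * (e * f * e * f) = 1 := by
    by_cases hc : Commute e f
    · rw [hc.eq, mul_assoc f e e, sq_one hD heD, mul_one, sq_one hD htd.right, mul_one]
    · exact sq_one hD (tri_bracket hD heD htd.right hef' hc).1.right
  have hde1 : d * (e * f * e * f) = 1 := by
    rw [← orderOf_eq_one_iff]
    refine Nat.eq_one_of_dvd_coprimes (a := orderOf (d * e * y)) (b := 2)
      (Nat.coprime_two_right.2 hdey.2.2.2) (key ▸ orderOf_pow_dvd 3) (orderOf_dvd_of_pow_eq_one ?_)
    rw [hdh.mul_pow, pow_two, pow_two, sq_one hD hd, hsq, one_mul]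
  calc e * f * e * f = d * (d * (e * f * e * f)) := (cancel hD hd _).symm
    _ = d := by rw [hde1, mul_one]

/-- Two members moving `b`, `c` along a chain of brackets have product of order three. -/
theorem orderOf_eq_three (hD : IsRootInvolutionSet D) {a b c x : G} (hab : Tri D a b)
    (hcb : Tri D b c) (htx : Tri D x c) (haca : a * c * a = c * b) (hxbx : x * b * x = b * c) :
    orderOf (a * x) = 3 := by
  have ha := hab.left
  have hxD := htx.left
  have hbD := hab.right
  have haba : a * b * a = b := conj_eq_of_commute hD ha hab.comm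
  have hxcx : x * c * x = c := conj_eq_of_commute hD hxD htx.comm
  have hcomm : Commute c b := hcb.comm.symm
  have hacb : a * (b * c) * a = c := by
    rw [conj_mul hD ha, haba, haca, hcomm.eq, ← mul_assoc, sq_one hD hbD, one_mul]
  have hax : ¬ Commute a x := by
    intro h
    apply ne_one hD hbD
    have e : a * (x * b * x) * a = x * b * x := by
      calc a * (x * b * x) * a = a * x * b * (x * a) := by simp only [mul_assoc]
        _ = x * a * b * (a * x) := by rw [h.eq]
        _ = x * (a * b * a) * x := by simp only [mul_assoc]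
        _ = x * b * x := by rw [haba]
    rw [hxbx, hacb] at e
    exact mul_right_cancel (e.symm.trans (one_mul c).symm)
  have hm : b * c ∈ D := hcb.mem
  have hxm : x * (b * c) * x = b := by rw [← hxbx, conj_conj hD hxD]
  have h4ax : orderOf (a * x) ≠ 4 := by
    intro h
    have hp : (a * x * a * x) = x * a * x * a := by
      have h2 : (a * x) ^ 4 = 1 := h ▸ pow_orderOf_eq_one _
      have h3 : (a * x * a * x) * (a * x * a * x) = 1 := by
        rw [← h2]; simp only [pow_succ, pow_zero, one_mul, mul_assoc]
      rw [eq_inv_of_mul_eq_one_left h3]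
      simp [mul_inv_rev, inv_eq hD ha, inv_eq hD hxD, mul_assoc]
    have e1 : a * x * a * x * b * (x * a * x * a) = c * b := by
      calc a * x * a * x * b * (x * a * x * a) = a * (x * (a * (x * b * x) * a) * x) * a := by
            simp only [mul_assoc]
        _ = c * b := by rw [hxbx, hacb, hxcx, haca]
    have e2 : x * a * x * a * b * (a * x * a * x) = c := by
      calc x * a * x * a * b * (a * x * a * x) = x * (a * (x * (a * b * a) * x) * a) * x := by
            simp only [mul_assoc]
        _ = c := by rw [haba, hxbx, hacb, hxcx]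
    rw [hp] at e1 e2
    apply ne_one hD hbD
    exact mul_left_cancel (a := c) ((mul_one c).symm ▸ e1.symm.trans e2)
  have hodd : Odd (orderOf (a * x)) := by
    rcases hD.pair a ha x hxD with h | h | ⟨h, -⟩
    exacts [absurd h hax, h, absurd h h4ax]
  have hne' : a ≠ x := by rintro rfl; exact hax (Commute.refl _)
  have hu : a * x * a ∈ D := conj_self_mem hD ha hxD
  have hu' : x * a * x ∈ D := conj_self_mem hD hxD ha
  have h3 : a * x * a * (x * a * x) = (a * x) ^ 3 := by
    simp only [pow_succ, pow_zero, one_mul, mul_assoc]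
  by_cases heq : a * x * a = x * a * x
  · haveI : Fact (Nat.Prime 3) := ⟨Nat.prime_three⟩
    refine orderOf_eq_prime (by rw [← h3, heq, sq_one hD hu']) fun h => hne' ?_
    rw [← mul_one a, ← sq_one hD hxD, ← mul_assoc, h, one_mul]
  exfalso
  have hadj : OddAdj D (a * x * a) (x * a * x) :=
    ⟨hu, hu', heq, h3 ▸ Odd.of_dvd_nat hodd (orderOf_pow_dvd 3)⟩
  have hub : a * x * a * b * (a * x * a) = c := by
    calc a * x * a * b * (a * x * a) = a * (x * (a * b * a) * x) * a := by simp only [mul_assoc]
      _ = c := by rw [haba, hxbx, hacb]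
  have hum : Commute (a * x * a) (b * c) := by
    refine commute_of_conj_eq hD hu ?_
    calc a * x * a * (b * c) * (a * x * a) = a * (x * (a * (b * c) * a) * x) * a := by
          simp only [mul_assoc]
      _ = b * c := by rw [hacb, hxcx, haca, hcomm.eq]
  have hu'm : Commute (b * c) (x * a * x) := by
    refine (commute_of_conj_eq hD hu' ?_).symm
    calc x * a * x * (b * c) * (x * a * x) = x * (a * (x * (b * c) * x) * a) * x := by
          simp only [mul_assoc]
      _ = b * c := by rw [hxm, haba, hxbx]
  have hmu : b * c * (a * x * a) ∈ D := by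
    have : b * (a * x * a) * b = b * c * (a * x * a) := by
      rw [← hub]
      simp only [mul_assoc, cancel hD hu, cancel hD ha, cancel hD hxD, sq_one hD ha, mul_one]
    exact this ▸ conj_self_mem hD hbD hu
  exact not_commute_of_adj hD ⟨hm, hu, hum.symm, hmu⟩ hadj hu'm

/-- An isolated `m` with `Cen` in a triple with `d`, and `y` with products of orders four and three. -/
structure Frame (D : Set G) (d m y : G) : Prop where
  root : IsRootInvolutionSet D
  conn : IsConnectedSet (OddAdj D) D
  cls : ClassSubgroups D
  hd : d ∈ D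
  hm : m ∈ iso D d
  cen : Cen D d m
  tri : Tri D m d
  hy : y ∈ D
  four : orderOf (d * y) = 4
  three : orderOf (m * y) = 3

theorem exists_frame [Finite G] (hD : IsRootInvolutionSet D)
    (hc : IsConnectedSet (OddAdj D) D) (hE : ClassSubgroups D) {d m : G} (hd : d ∈ D)
    (hm : m ∈ iso D d) (hR : Cen D d m) (ht : Tri D m d) (hne : m ∉ sameCommutingSubgroup D d) :
    ∃ y, Frame D d m y := by
  obtain ⟨y, ⟨hy, h4⟩, h3⟩ := Cfsg.Agent.S5047.result hD hc ht.left (ht.partner hD)
    (fun h => hne (Subgroup.subset_closure ⟨ht.left, h.2.symm⟩))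
  exact ⟨y, hD, hc, hE, hd, hm, hR, ht, hy, h4, h3⟩

namespace Frame

variable {d m y : G} (h : Frame D d m y)

include h

theorem sq : y * y = 1 := sq_one h.root h.hy

theorem mD : m ∈ D := iso_mem h.hm

theorem adj : OddAdj D m y := ⟨h.mD, h.hy, fun e => by
  have h3 := h.three
  rw [e, h.sq, orderOf_one] at h3; omega, by rw [h.three]; decide⟩

theorem comm_d : Commute d m := h.tri.comm.symm

theorem braid_my : m * y * m = y * m * y := braid h.root h.mD h.hy h.three

/-- `y` forms a product of order four with every member of the class of `d`. -/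
theorem nonadj [Finite G] {e : G} (he : e ∈ sameCommutingSubgroup D d) (he1 : e ≠ 1) :
    e ∈ D ∧ ¬ Commute e y ∧ ¬ OddAdj D e y := by
  obtain ⟨heD, hC⟩ := ((mem_same h.cls h.hd).1 he).resolve_left he1
  obtain ⟨hn, ho⟩ := four_pair h.root h.hd h.hy h.four
  exact ⟨heD, fun hc => hn ((commute_members_iff hC h.hy).2 hc.symm).symm,
    fun hh => ho ((oddAdj_iff_of_eq h.root h.hd heD
      ((oddPartners_eq_iff h.root h.conn h.hd heD).2 hC)).2 hh)⟩

end Frame

/-- The square of the product of `e` with `y`. -/
def fmap (y e : G) : G := e * (y * e * y)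

namespace Frame

variable [Finite G] {d m y : G} (h : Frame D d m y)

include h

theorem fmap_one : fmap y (1 : G) = 1 := by simp [fmap, h.sq]

theorem fmap_tri {e : G} (he : e ∈ sameCommutingSubgroup D d) (he1 : e ≠ 1) :
    Tri D e (fmap y e) ∧ Tri D y (fmap y e) := by
  obtain ⟨heD, hn, ho⟩ := h.nonadj he he1
  have := tri_bracket h.root heD h.hy ho hn
  simp only [fmap, ← mul_assoc]
  exact this

theorem fmap_iso {e : G} (he : e ∈ sameCommutingSubgroup D d) (he1 : e ≠ 1) :
    fmap y e ∈ iso D d := by
  obtain ⟨heD, hC⟩ := ((mem_same h.cls h.hd).1 he).resolve_left he1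
  rw [iso_congr hC]
  exact partner_mem_iso h.root heD ((h.fmap_tri he he1).1.partner h.root)

theorem fmap_mem {e : G} (he : e ∈ sameCommutingSubgroup D d) : fmap y e ∈ isoGroup D d := by
  by_cases he1 : e = 1
  · rw [he1, h.fmap_one]; exact one_mem _
  · exact Subgroup.subset_closure (h.fmap_iso he he1)

theorem fmap_fix {e : G} (he : e ∈ sameCommutingSubgroup D d) :
    y * fmap y e * y = fmap y e := by
  by_cases he1 : e = 1
  · rw [he1, h.fmap_one, mul_one, h.sq]
  · exact conj_eq_of_commute h.root h.hy (h.fmap_tri he he1).2.comm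

theorem fmap_sq {e : G} (he : e ∈ sameCommutingSubgroup D d) : fmap y e * fmap y e = 1 := by
  by_cases he1 : e = 1
  · rw [he1, h.fmap_one, mul_one]
  · exact sq_one h.root (h.fmap_tri he he1).1.right

theorem same_comm_fmap {e e' : G} (he : e ∈ sameCommutingSubgroup D d)
    (he' : e' ∈ sameCommutingSubgroup D d) : Commute e (fmap y e') :=
  same_commute_group h.cls h.hd he (h.fmap_mem he')

theorem conj_same {e : G} (he : e ∈ sameCommutingSubgroup D d) :
    y * e * y = e * fmap y e := by
  rw [fmap, ← mul_assoc e e, same_sq h.cls h.hd h.root he, one_mul]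

theorem fmap_mul {e e' : G} (he : e ∈ sameCommutingSubgroup D d)
    (he' : e' ∈ sameCommutingSubgroup D d) : fmap y (e * e') = fmap y e * fmap y e' := by
  have hc : Commute (y * e * y) e' := by
    rw [h.conj_same he]
    exact (same_commute_same h.cls h.hd he he').mul_left (h.same_comm_fmap he' he).symm
  rw [fmap, conj_mul h.root h.hy]
  exact Commute.mul_mul_mul_comm hc.symm e (y * e' * y)

theorem fmap_comm {e e' : G} (he : e ∈ sameCommutingSubgroup D d)
    (he' : e' ∈ sameCommutingSubgroup D d) : Commute (fmap y e) (fmap y e') := by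
  show fmap y e * fmap y e' = fmap y e' * fmap y e
  rw [← h.fmap_mul he he', ← h.fmap_mul he' he, (same_commute_same h.cls h.hd he he').eq]

theorem fmap_inj {e e' : G} (he : e ∈ sameCommutingSubgroup D d)
    (he' : e' ∈ sameCommutingSubgroup D d) (hf : fmap y e = fmap y e') : e = e' := by
  have h1 : fmap y (e * e') = 1 := by rw [h.fmap_mul he he', hf, h.fmap_sq he']
  by_contra hne
  have hne' : e * e' ≠ 1 := fun e1 => hne (by
    rw [← mul_one e, ← same_sq h.cls h.hd h.root he', ← mul_assoc, e1, one_mul])
  exact ne_one h.root (h.fmap_tri (mul_mem he he') hne').1.right h1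

theorem m_comm_same {e : G} (he : e ∈ sameCommutingSubgroup D d) : Commute e m :=
  same_commute h.cls h.hd he h.mD (iso_subset h.hm).2

/-- `m` moves `(e y)²` by `e`. -/
theorem m_conj_fmap {e : G} (he : e ∈ sameCommutingSubgroup D d) :
    m * fmap y e * m = fmap y e * e := by
  have hD := h.root
  obtain ⟨ε, hε, hmε⟩ := cen_group hD h.cls h.hd (sq_one hD h.mD) h.cen (h.fmap_mem he)
  suffices ε = e by rw [hmε, this]
  refine h.fmap_inj hε he ?_
  have hfix : m * e * m = e := conj_eq_of_commute hD h.mD (h.m_comm_same he).symm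
  have hyef : y * (e * fmap y e) * y = e := by rw [← h.conj_same he, conj_conj hD h.hy]
  have hL : y * (m * (y * e * y) * m) * y = e * (ε * fmap y ε) := by
    rw [h.conj_same he, conj_mul hD h.mD, hfix, hmε, ← mul_assoc e (fmap y e) ε, conj_mul hD h.hy,
      hyef, h.conj_same hε]
  have hR : m * (y * (m * e * m) * y) * m = e * (fmap y e * ε) := by
    rw [hfix, h.conj_same he, conj_mul hD h.mD, hfix, hmε]
  have hLR : y * (m * (y * e * y) * m) * y = m * (y * (m * e * m) * y) * m := by
    rw [show y * (m * (y * e * y) * m) * y = (y * m * y) * e * (y * m * y) by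
      simp only [mul_assoc], ← h.braid_my]
    simp only [mul_assoc]
  rw [hL, hR] at hLR
  have := mul_left_cancel hLR
  rw [← (h.same_comm_fmap hε he).eq] at this
  exact mul_left_cancel this

/-- An element of the isolated group moved by `y` by an element `c` fixed by `y`: `c` is a value of
`fmap`. -/
theorem orbit {v c : G} (hv : v ∈ isoGroup D d) (hcN : c ∈ isoGroup D d)
    (hyv : y * v * y = v * c) :
    ∃ e ∈ sameCommutingSubgroup D d, c = fmap y e := by
  have hD := h.root
  obtain ⟨e1, he1, h1⟩ := cen_group hD h.cls h.hd (sq_one hD h.mD) h.cen hcN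
  obtain ⟨e2, he2, h2⟩ := cen_group hD h.cls h.hd (sq_one hD h.mD) h.cen hv
  refine ⟨e1, he1, ?_⟩
  have he := mul_mem he2 he1
  have hyvc : y * (v * c) * y = v := by rw [← hyv, conj_conj hD h.hy]
  have hce : Commute e2 c := same_commute_group h.cls h.hd he2 hcN
  have hL : y * (m * (y * v * y) * m) * y = v * (e2 * e1 * fmap y (e2 * e1)) := by
    rw [hyv, conj_mul hD h.mD, h2, h1,
      show v * e2 * (c * e1) = v * c * (e2 * e1) from hce.mul_mul_mul_comm v e1,
      conj_mul hD h.hy, hyvc, h.conj_same he]
  have hR : m * (y * (m * v * m) * y) * m = v * (c * e1 * fmap y e2 * e2 * (e2 * e2)) := by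
    rw [h2, conj_mul hD h.hy, hyv, h.conj_same he2, conj_mul hD h.mD, conj_mul hD h.mD, h2, h1,
      conj_mul hD h.mD, conj_eq_of_commute hD h.mD (h.m_comm_same he2).symm, h.m_conj_fmap he2]
    have k1 : Commute e2 (c * e1) := hce.mul_right (same_commute_same h.cls h.hd he2 he1)
    have k2 : Commute e2 (fmap y e2) := h.same_comm_fmap he2 he2
    simp only [← mul_assoc]
    rw [mul_assoc (v * e2) c e1, mul_assoc v e2 (c * e1), k1.eq, ← mul_assoc v (c * e1) e2]
    simp only [mul_assoc]
    rw [← mul_assoc e2 (fmap y e2) e2, k2.eq]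
    simp only [← mul_assoc]
    congr 1
    simp only [mul_assoc]
    rw [← mul_assoc e2 (fmap y e2), k2.eq]
    simp only [mul_assoc]
  have hLR : y * (m * (y * v * y) * m) * y = m * (y * (m * v * m) * y) * m := by
    rw [show y * (m * (y * v * y) * m) * y = (y * m * y) * v * (y * m * y) by
      simp only [mul_assoc], ← h.braid_my]
    simp only [mul_assoc]
  rw [hL, hR, same_sq h.cls h.hd hD he2, mul_one] at hLR
  have hkey := mul_left_cancel hLR
  rw [h.fmap_mul he2 he1] at hkey
  -- move the class elements to the left
  have k3 : c * e1 * fmap y e2 * e2 = e2 * e1 * (c * fmap y e2) := by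
    have q1 : Commute c e1 := (same_commute_group h.cls h.hd he1 hcN).symm
    have q2 : Commute (c * e1 * fmap y e2) e2 :=
      ((hce.mul_right (same_commute_same h.cls h.hd he2 he1)).mul_right
        (h.same_comm_fmap he2 he2)).symm
    rw [q2.eq, q1.eq]
    simp only [mul_assoc]
  rw [k3, (h.fmap_comm he2 he1).eq] at hkey
  exact (mul_right_cancel (mul_left_cancel hkey)).symm

end Frame

end CfsgLib.Perm.RootStructure
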